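import Groth.Agent.Lib.DCxRing.Homology

/-!
# Maps in the derived category out of a projective module placed in degree `0`
-/

set_option autoImplicit false
set_option maxHeartbeats 800000
universe u

open CategoryTheory CategoryTheory.Limits HomologicalComplex Pretriangulated

attribute [local instance] HasDerivedCategory.standard

namespace GrothLib.DCpl

variable {A : Type u} [CommRing A]

/-- The effect of a map out of a module in degree `0` on `H⁰`. -/
noncomputable def homH0 (P : ModuleCat.{u} A) (X : Dual.D A)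
    (ξ : (DerivedCategory.singleFunctor (ModuleCat.{u} A) 0).obj P ⟶ X) :
    P ⟶ (DerivedCategory.homologyFunctor (ModuleCat.{u} A) 0).obj X :=
  ((DerivedCategory.singleFunctorCompHomologyFunctorIso (ModuleCat.{u} A) 0).app P).inv ≫
    (DerivedCategory.homologyFunctor (ModuleCat.{u} A) 0).map ξ

lemma homH0_comp {P : ModuleCat.{u} A} {X Y : Dual.D A}
    (ξ : (DerivedCategory.singleFunctor (ModuleCat.{u} A) 0).obj P ⟶ X) (β : X ⟶ Y) :
    homH0 P Y (ξ ≫ β) = homH0 P X ξ ≫ (DerivedCategory.homologyFunctor (ModuleCat.{u} A) 0).map β := by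
  simp [homH0]

lemma homH0_precomp {P P' : ModuleCat.{u} A} {X : Dual.D A} (φ : P' ⟶ P)
    (ξ : (DerivedCategory.singleFunctor (ModuleCat.{u} A) 0).obj P ⟶ X) :
    homH0 P' X ((DerivedCategory.singleFunctor (ModuleCat.{u} A) 0).map φ ≫ ξ) = φ ≫ homH0 P X ξ := by
  have h := (DerivedCategory.singleFunctorCompHomologyFunctorIso (ModuleCat.{u} A) 0).inv.naturality φ
  simp only [Functor.id_map, Functor.comp_map] at h
  simp only [homH0, Iso.app_inv, Functor.map_comp]
  erw [← reassoc_of% h]

lemma homH0_add {P : ModuleCat.{u} A} {X : Dual.D A}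
    (ξ η : (DerivedCategory.singleFunctor (ModuleCat.{u} A) 0).obj P ⟶ X) :
    homH0 P X (ξ + η) = homH0 P X ξ + homH0 P X η := by
  simp [homH0]

/-- A module in degree `0` as the image of a complex. -/
noncomputable def eSingle (P : ModuleCat.{u} A) :
    (DerivedCategory.singleFunctor (ModuleCat.{u} A) 0).obj P ≅
      DRing.toD ((HomologicalComplex.single (ModuleCat.{u} A) (ComplexShape.up ℤ) 0).obj P) :=
  ((SingleFunctors.evaluation _ _ 0).mapIso
    (DerivedCategory.singleFunctorsPostcompQIso (ModuleCat.{u} A))).app P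

lemma homH0_eSingle {P : ModuleCat.{u} A} {L : DRing.Cx A}
    (f : (HomologicalComplex.single (ModuleCat.{u} A) (ComplexShape.up ℤ) 0).obj P ⟶ L) :
    homH0 P (DRing.toD L) ((eSingle P).hom ≫ DerivedCategory.Q.map f) ≫
        (DerivedCategory.homologyFunctorFactors (ModuleCat.{u} A) 0).hom.app L =
      (singleObjHomologySelfIso (ComplexShape.up ℤ) 0 P).inv ≫ homologyMap f 0 := by
  have h := (DerivedCategory.homologyFunctorFactors (ModuleCat.{u} A) 0).hom.naturality f
  simp only [Functor.comp_map] at h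
  have e : ((DerivedCategory.singleFunctorCompHomologyFunctorIso (ModuleCat.{u} A) 0).app P).inv =
      (singleObjHomologySelfIso (ComplexShape.up ℤ) 0 P).inv ≫
        (DerivedCategory.homologyFunctorFactors (ModuleCat.{u} A) 0).inv.app _ ≫
          (DerivedCategory.homologyFunctor (ModuleCat.{u} A) 0).map (eSingle P).inv := by
    simp [DerivedCategory.singleFunctorCompHomologyFunctorIso, eSingle]
    erw [Category.id_comp]
    rfl
  rw [homH0, e]
  simp only [Category.assoc, ← Functor.map_comp_assoc, Iso.inv_hom_id_assoc]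
  erw [h, Iso.inv_hom_id_app_assoc]
  rfl

theorem homH0_injective (P : ModuleCat.{u} A) [Projective P] (X : Dual.D A) :
    Function.Injective (homH0 P X) := by
  suffices H : ∀ ξ, homH0 P X ξ = 0 → ξ = 0 by
    intro ξ η h
    rw [← sub_eq_zero]
    refine H _ ?_
    have := homH0_add (ξ - η) η
    rw [sub_add_cancel, h] at this
    simpa using this
  intro ξ hξ
  obtain ⟨L, ⟨e⟩⟩ : ∃ L : DRing.Cx A, Nonempty (DRing.toD L ≅ X) :=
    ⟨_, ⟨DerivedCategory.Q.objObjPreimageIso X⟩⟩
  let S : DRing.Cx A := (HomologicalComplex.single (ModuleCat.{u} A) (ComplexShape.up ℤ) 0).obj P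
  let eS : (DerivedCategory.singleFunctor (ModuleCat.{u} A) 0).obj P ≅ DRing.toD S := eSingle P
  haveI : S.IsKProjective := DR.isKProjective S 0
    (fun i hi => isZero_single_obj_X _ _ _ _ (by omega)) fun i => by
      rw [DR.projective_iff]
      by_cases hi : i = 0
      · subst hi
        exact Projective.of_iso (singleObjXSelf (ComplexShape.up ℤ) 0 P).symm inferInstance
      · exact Projective.of_iso (isZero_single_obj_X _ _ _ _ hi).isoZero.symm inferInstance
  obtain ⟨f, hf⟩ := DR.exists_lift S (L := L) (eS.inv ≫ ξ ≫ e.inv)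
  have hξf : ξ = eS.hom ≫ DerivedCategory.Q.map f ≫ e.hom := by
    rw [hf]
    simp
  have h0 : (singleObjHomologySelfIso (ComplexShape.up ℤ) 0 P).inv ≫ homologyMap f 0 = 0 := by
    rw [hξf, ← Category.assoc, homH0_comp] at hξ
    have h1 : homH0 P (DRing.toD L) (eS.hom ≫ DerivedCategory.Q.map f) = 0 := by
      rw [← cancel_mono ((DerivedCategory.homologyFunctor (ModuleCat.{u} A) 0).map e.hom), hξ, zero_comp]
    rw [← homH0_eSingle, h1]
    exact zero_comp
  let c : P ⟶ L.X 0 := (singleObjXSelf (ComplexShape.up ℤ) 0 P).inv ≫ f.f 0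
  have hc : c ≫ L.d 0 1 = 0 := by
    simp [c]
    exact (isZero_single_obj_X (ComplexShape.up ℤ) 0 P 1 (by omega)).eq_of_tgt (S.d 0 1) 0 ▸ zero_comp
  have hπ : L.liftCycles c 1 (by simp) hc ≫ L.homologyπ 0 = 0 := by
    rw [← h0, ← singleObjCyclesSelfIso_inv_homologyπ, Category.assoc, homologyπ_naturality,
      ← Category.assoc]
    congr 1
    rw [← cancel_mono (L.iCycles 0)]
    simp [c, S]
  have hex : (ShortComplex.mk (L.toCycles (-1) 0) (L.homologyπ 0) (L.toCycles_comp_homologyπ _ _)).Exact :=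
    ShortComplex.exact_of_g_is_cokernel _ (L.homologyIsCokernel (-1) 0 (by simp))
  obtain ⟨h, hh⟩ : ∃ h : P ⟶ L.X (-1), h ≫ L.d (-1) 0 = c := by
    refine ⟨hex.liftFromProjective (L.liftCycles c 1 (by simp) hc) hπ, ?_⟩
    have h1 := congrArg (· ≫ L.iCycles 0)
      (hex.liftFromProjective_comp (L.liftCycles c 1 (by simp) hc) hπ)
    simpa using h1
  let hom : ∀ p q : ℤ, S.X p ⟶ L.X q := fun p q =>
    if hpq : p = 0 ∧ q = -1 then
      (singleObjXIsoOfEq (ComplexShape.up ℤ) 0 P p hpq.1).hom ≫ h ≫ eqToHom (by rw [hpq.2]) else 0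
  have H : Homotopy f 0 := by
    refine { hom := hom, zero := fun p q hpq => ?_, comm := fun i => ?_ }
    · simp only [ComplexShape.up_Rel] at hpq
      simp only [hom]
      rw [dif_neg (fun hh => hpq (by omega))]
    · by_cases hi : i = 0
      · subst hi
        rw [dNext_eq hom (show (ComplexShape.up ℤ).Rel (0 : ℤ) 1 by simp),
          prevD_eq hom (show (ComplexShape.up ℤ).Rel (-1 : ℤ) 0 by simp), HomologicalComplex.zero_f_apply,
          add_zero]
        have e0 : hom 0 (-1) = (singleObjXSelf (ComplexShape.up ℤ) 0 P).hom ≫ h := by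
          simp [hom, singleObjXSelf]
        rw [e0, Category.assoc, hh]
        simp [c, S, hom]
      · exact (isZero_single_obj_X (ComplexShape.up ℤ) 0 P i hi).eq_of_src _ _
  rw [hξf, DerivedCategory.Q_map_eq_of_homotopy _ H, Functor.map_zero, zero_comp, comp_zero]

theorem homH0_surjective (P : ModuleCat.{u} A) [Projective P] (X : Dual.D A) :
    Function.Surjective (homH0 P X) := by
  intro g
  obtain ⟨L, ⟨e⟩⟩ : ∃ L : DRing.Cx A, Nonempty (DRing.toD L ≅ X) :=
    ⟨_, ⟨DerivedCategory.Q.objObjPreimageIso X⟩⟩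
  let S : DRing.Cx A := (HomologicalComplex.single (ModuleCat.{u} A) (ComplexShape.up ℤ) 0).obj P
  let eS : (DerivedCategory.singleFunctor (ModuleCat.{u} A) 0).obj P ≅ DRing.toD S := eSingle P
  let g' : P ⟶ L.homology 0 := g ≫ (DerivedCategory.homologyFunctor (ModuleCat.{u} A) 0).map e.inv ≫
    (DerivedCategory.homologyFunctorFactors (ModuleCat.{u} A) 0).hom.app L
  let z := Projective.factorThru g' (L.homologyπ 0)
  let f : S ⟶ L := mkHomFromSingle (z ≫ L.iCycles 0) fun k _ => by simp
  refine ⟨eS.hom ≫ DerivedCategory.Q.map f ≫ e.hom, ?_⟩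
  rw [← Category.assoc, homH0_comp]
  have key : (singleObjHomologySelfIso (ComplexShape.up ℤ) 0 P).inv ≫ homologyMap f 0 = g' := by
    rw [← singleObjCyclesSelfIso_inv_homologyπ, Category.assoc, homologyπ_naturality, ← Category.assoc]
    have : (singleObjCyclesSelfIso (ComplexShape.up ℤ) 0 P).inv ≫ cyclesMap f 0 = z := by
      rw [← cancel_mono (L.iCycles 0)]
      simp [f, S]
    rw [this]
    exact Projective.factorThru_comp _ _
  have h1 : homH0 P (DRing.toD L) (eS.hom ≫ DerivedCategory.Q.map f) =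
      g ≫ (DerivedCategory.homologyFunctor (ModuleCat.{u} A) 0).map e.inv := by
    rw [← cancel_mono ((DerivedCategory.homologyFunctorFactors (ModuleCat.{u} A) 0).hom.app L),
      homH0_eSingle, key, Category.assoc]
    rfl
  rw [h1, Category.assoc, ← Functor.map_comp, e.inv_hom_id, CategoryTheory.Functor.map_id, Category.comp_id]

/-- Maps from a projective module in degree `0` into `K⟦n⟧` are maps into `Hⁿ(K)`. -/
noncomputable def homHn (P : ModuleCat.{u} A) (K : Dual.D A) (n : ℤ)
    (ξ : (DerivedCategory.singleFunctor (ModuleCat.{u} A) 0).obj P ⟶ K⟦n⟧) :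
    P ⟶ (DerivedCategory.homologyFunctor (ModuleCat.{u} A) n).obj K :=
  homH0 P (K⟦n⟧) ξ ≫
    (((DerivedCategory.homologyFunctor (ModuleCat.{u} A) 0).shiftIso n 0 n (add_zero n)).app K).hom

theorem homHn_bijective (P : ModuleCat.{u} A) [Projective P] (K : Dual.D A) (n : ℤ) :
    Function.Bijective (homHn P K n) :=
  ((((DerivedCategory.homologyFunctor (ModuleCat.{u} A) 0).shiftIso n 0 n
      (add_zero n)).app K).homCongr (α := Iso.refl P)).bijective.comp
    ⟨homH0_injective P _, homH0_surjective P _⟩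

lemma homHn_precomp {P P' : ModuleCat.{u} A} {K : Dual.D A} {n : ℤ} (φ : P' ⟶ P)
    (ξ : (DerivedCategory.singleFunctor (ModuleCat.{u} A) 0).obj P ⟶ K⟦n⟧) :
    homHn P' K n ((DerivedCategory.singleFunctor (ModuleCat.{u} A) 0).map φ ≫ ξ) = φ ≫ homHn P K n ξ := by
  rw [homHn, homH0_precomp, Category.assoc]
  rfl

end GrothLib.DCpl
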