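import Groth.Agent.Lib.DCxRing.DComplete.Telescope

/-!
# Derived completeness as an operator identity

If `M` is derived complete with respect to `g`, then `1 - g T` is invertible for every endomorphism `T`.
In particular the elements with respect to which `M` is derived complete form a radical ideal.
-/

set_option autoImplicit false
universe u v

namespace GrothLib.DCpl

variable {A : Type u} [CommRing A] {M : Type v} [AddCommGroup M] [Module A M]

/-- If `M` is derived complete for `g`, then `1 - g T` is bijective for every endomorphism `T`. -/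
theorem DCMod.bijective_one_sub {g : A} (h : DCMod g M) (T : Module.End A M) :
    Function.Bijective (⇑(1 - g • T : Module.End A M)) := by
  have hι : ∀ x : M, telMap g M (fun j => (T ^ j) x) = fun j => (T ^ j) ((1 - g • T : Module.End A M) x) :=
    fun x => by
      funext j
      simp [pow_succ]
  refine ⟨(injective_iff_map_eq_zero _).2 fun x hx => ?_, fun y => ?_⟩
  · have h0 : (fun j => (T ^ j) x) = 0 := by
      apply h.1
      rw [hι, hx, map_zero]
      funext j
      simp
    simpa using congrFun h0 0
  · obtain ⟨X, hX⟩ := h.2 fun j => (T ^ j) y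
    have hZ : ∀ j, X (j + 1) - T (X j) = 0 := by
      have : (fun j => X (j + 1) - T (X j)) = 0 := by
        apply h.1
        rw [map_zero]
        funext j
        have h1 := congrFun hX (j + 1)
        have h2 := congrArg T (congrFun hX j)
        simp only [telMap_apply, map_sub, map_smul, ← Module.End.mul_apply, ← pow_succ'] at h1 h2
        simp only [telMap_apply, smul_sub, Pi.zero_apply]
        rw [← sub_self ((T ^ (j + 1)) y)]
        nth_rw 1 [← h1]
        rw [← h2]
        abel
      exact congrFun this
    refine ⟨X 0, ?_⟩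
    have h0 := congrFun hX 0
    rw [telMap_apply, sub_eq_zero.1 (hZ 0)] at h0
    simpa using h0

/-- The shift of sequences. -/
def shiftSeq (A : Type u) [CommRing A] (M : Type v) [AddCommGroup M] [Module A M] : Module.End A (ℕ → M) :=
  LinearMap.funLeft A M (· + 1)

@[simp] lemma shiftSeq_apply (x : ℕ → M) (j : ℕ) : shiftSeq A M x j = x (j + 1) := rfl

lemma telMap_eq (f : A) : telMap f M = (1 - f • shiftSeq A M : Module.End A (ℕ → M)) := by
  refine LinearMap.ext fun x => funext fun j => ?_
  simp

lemma dcMod_pi {g : A} {ι : Type*} (h : DCMod g M) : DCMod g (ι → M) := by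
  refine ⟨fun x y hxy => ?_, fun y => ?_⟩
  · funext j i
    have h1 := h.1 (a₁ := fun j => x j i) (a₂ := fun j => y j i)
      (funext fun j => congrFun (congrFun hxy j) i)
    exact congrFun h1 j
  · choose x hx using fun i => h.2 fun j => y j i
    exact ⟨fun j i => x i j, funext fun j => funext fun i => congrFun (hx i) j⟩

lemma dcMod_zero : DCMod (0 : A) M := by
  rw [DCMod, telMap_eq]
  simp only [zero_smul, sub_zero]
  exact Function.bijective_id

lemma DCMod.mul_left {f : A} (h : DCMod f M) (a : A) : DCMod (a * f) M := by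
  rw [DCMod, telMap_eq]
  have := (dcMod_pi (ι := ℕ) h).bijective_one_sub (a • shiftSeq A M)
  rwa [smul_smul, mul_comm] at this

lemma DCMod.add {f g : A} (hf : DCMod f M) (hg : DCMod g M) : DCMod (f + g) M := by
  rw [DCMod, telMap_eq]
  have hU : IsUnit (1 - f • shiftSeq A M : Module.End A (ℕ → M)) := by
    rw [Module.End.isUnit_iff, ← telMap_eq]
    exact hf
  obtain ⟨U, hU⟩ := hU
  have h2 : Function.Bijective (⇑(1 - g • ((↑U⁻¹ : Module.End A (ℕ → M)) * shiftSeq A M) : Module.End A (ℕ → M))) :=
    (dcMod_pi (ι := ℕ) hg).bijective_one_sub _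
  have e : (1 - (f + g) • shiftSeq A M : Module.End A (ℕ → M)) =
      ↑U * (1 - g • ((↑U⁻¹ : Module.End A (ℕ → M)) * shiftSeq A M)) := by
    rw [mul_sub, mul_one, mul_smul_comm, ← mul_assoc, Units.mul_inv, one_mul, hU, add_smul]
    abel
  rw [e]
  have h3 : Function.Bijective (⇑(U : Module.End A (ℕ → M))) := by
    rw [hU, ← telMap_eq]
    exact hf
  exact h3.comp h2

lemma DCMod.of_pow {f : A} (n : ℕ) (h : DCMod (f ^ n) M) : DCMod f M := by
  rw [DCMod, telMap_eq]
  set E : Module.End A (ℕ → M) := f • shiftSeq A M
  have hb : Function.Bijective (⇑(1 - E ^ n)) := by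
    have := (dcMod_pi (ι := ℕ) h).bijective_one_sub (shiftSeq A M ^ n)
    rwa [← smul_pow] at this
  have h1 : IsUnit (1 - E ^ n) := (Module.End.isUnit_iff _).2 hb
  refine ((Module.End.isUnit_iff _).1 ?_)
  rw [← mul_neg_geom_sum] at h1
  exact (((Commute.one_left _).sub_left (Commute.sum_right _ _ _ fun i _ => Commute.pow_right (Commute.refl E) i))
    |>.isUnit_mul_iff.1 h1).1

variable (A M)

/-- The elements with respect to which `M` is derived complete. -/
def dcIdeal : Ideal A where
  carrier := {f | DCMod f M}
  add_mem' := DCMod.add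
  zero_mem' := dcMod_zero
  smul_mem' a _ h := h.mul_left a

variable {A M}

lemma mem_dcIdeal {f : A} : f ∈ dcIdeal A M ↔ DCMod f M := Iff.rfl

lemma dcIdeal_isRadical : (dcIdeal A M).IsRadical := fun _ ⟨n, hn⟩ => DCMod.of_pow n hn

end GrothLib.DCpl
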