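import Groth.Agent.Lib.DCxRing.DComplete.Step
import Groth.Agent.Lib.DCxRing.DComplete.Ideal
import Mathlib.CategoryTheory.Adjunction.Comma

/-!
# Existence of derived completion for finitely generated ideals
-/

set_option autoImplicit false
set_option maxHeartbeats 800000
universe u

open CategoryTheory CategoryTheory.Limits HomologicalComplex CochainComplex Pretriangulated

attribute [local instance] HasDerivedCategory.standard

namespace GrothLib.DCpl

variable {A : Type u} [CommRing A]

lemma element_exact_seqCx {C : DRing.Cx A} {i : ℤ} (h : C.ExactAt i) :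
    (seqCx C).ExactAt i := by
  rw [DR.element_exact _ (i - 1) i (i + 1) (by omega) rfl] at h ⊢
  intro x hx
  choose y hy using fun n => h (x n) (congrFun hx n)
  exact ⟨y, funext hy⟩

lemma exactAt_complCx {C : DRing.Cx A} (f : A) {i : ℤ} (h : C.ExactAt i) (h' : C.ExactAt (i + 1)) :
    (complCx C f).ExactAt i := by
  have h0 := (DR.element_exact _ (i - 1) i (i + 1) (by omega) rfl).1 (element_exact_seqCx h)
  have h1 := (DR.element_exact _ i (i + 1) (i + 2) rfl (by omega)).1 (element_exact_seqCx h')
  refine DR.exactAt_cone_of_elements _ i fun a l ha hl => ?_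
  obtain ⟨a', ha'⟩ := h1 a ha
  have hc := LinearMap.congr_fun (congrArg ModuleCat.Hom.hom ((seqPre C f).comm i (i + 1))) a'
  simp only [ModuleCat.hom_comp, LinearMap.comp_apply] at hc
  obtain ⟨l', hl'⟩ := h0 (l + ((seqPre C f).f i).hom a') (by
    rw [map_add, hc, ha']
    exact (add_comm _ _).trans hl)
  refine ⟨-a', l', by rw [map_neg, neg_neg, ha'], ?_⟩
  rw [hl', map_neg]
  abel

/-- Derived completion with respect to finitely many elements, with its range of degrees. -/
theorem exists_completion (s : Finset A) (K : Dual.D A) :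
    ∃ (L : Dual.D A) (η : K ⟶ L), (∀ g ∈ s, DCObj g L) ∧
      (∀ E : Dual.D A, (∀ g ∈ s, DCObj g E) → Function.Bijective (fun ψ : L ⟶ E => η ≫ ψ)) ∧
      (∀ i : ℤ, (∀ k : ℕ, k ≤ s.card → Subsingleton (Dual.HD A K (i + k))) → Subsingleton (Dual.HD A L i)) := by
  classical
  induction s using Finset.induction with
  | empty =>
    refine ⟨K, 𝟙 K, by simp, fun E _ => ?_, fun i h => ?_⟩
    · simp only [Category.id_comp]
      exact Function.bijective_id
    · simpa using h 0 le_rfl
  | insert f t ht ih =>
    obtain ⟨L, η, hL, hU, hB⟩ := ih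
    obtain ⟨L₀, ⟨eL⟩⟩ : ∃ L₀ : DRing.Cx A, Nonempty (DRing.toD L₀ ≅ L) :=
      ⟨_, ⟨DerivedCategory.Q.objObjPreimageIso L⟩⟩
    obtain ⟨C, i, hi, hC, -⟩ := KInj.exists_kInjective_resolution (ModuleCat.{u} A) L₀
    let e : DRing.toD C ≅ L := (asIso (DerivedCategory.Q.map i)).symm ≪≫ eL
    refine ⟨DRing.toD (complCx C f), η ≫ e.inv ≫ DerivedCategory.Q.map (toComplCx C f), fun g hg => ?_,
      fun E hE => ?_, fun n h => ?_⟩
    · refine dcObj_complCx C f g ?_
      rcases Finset.mem_insert.1 hg with rfl | hg
      · exact Or.inl rfl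
      · exact Or.inr (dcObj_of_iso e.symm (hL g hg))
    · have h1 := hU E fun g hg => hE g (Finset.mem_insert_of_mem hg)
      have h2 := precomp_toComplCx_bijective C f (hE f (Finset.mem_insert_self f t))
      have h3 : Function.Bijective (fun ψ : DRing.toD C ⟶ E => e.inv ≫ ψ) :=
        (e.homCongr (Iso.refl E)).bijective.comp Function.bijective_id |> fun hb => by
          convert hb using 1
          funext ψ
          simp
      have := (h1.comp h3).comp h2
      convert this using 1
      funext ψ
      simp
    · rw [Finset.card_insert_of_notMem ht] at h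
      have hLn : ∀ j : ℕ, j ≤ 1 → C.ExactAt (n + j) := fun j hj => by
        rw [DR.exactAt_iff]
        haveI := hB (n + j) fun k hk => by
          have := h (j + k) (by omega)
          rwa [Nat.cast_add, ← add_assoc] at this
        exact ((DerivedCategory.homologyFunctor (ModuleCat.{u} A) (n + j)).mapIso e).toLinearEquiv.subsingleton
      rw [← DR.exactAt_iff]
      exact exactAt_complCx f (by simpa using hLn 0 zero_le_one) (by simpa using hLn 1 le_rfl)

lemma isDerivedComplete_of_span {I : Ideal A} {s : Finset A} (hs : Ideal.span (s : Set A) = I) (L : Dual.D A)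
    (hL : ∀ g ∈ s, DCObj g L) : DRing.IsDerivedComplete I L := by
  rw [isDerivedComplete_iff, ← hs]
  intro f hf n
  exact Ideal.span_le.2 (fun g hg => mem_dcIdeal.2 (hL g hg n)) hf

/-- Derived completion exists. -/
theorem hasDerivedCompletion (I : Ideal A) (hI : I.FG) : DRing.HasDerivedCompletion I := by
  obtain ⟨s, hs⟩ := hI
  rw [DRing.HasDerivedCompletion, isRightAdjoint_iff_hasInitial_structuredArrow]
  intro K
  obtain ⟨L, η, hL, hU, -⟩ := exists_completion s K
  let L' : DRing.DComp I := ⟨L, isDerivedComplete_of_span hs L hL⟩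
  have hU' : ∀ Y : DRing.DComp I, Function.Bijective (fun ψ : L ⟶ Y.obj => η ≫ ψ) := fun Y =>
    hU Y.obj fun g hg n => (isDerivedComplete_iff I _).1 Y.property g (hs ▸ Ideal.subset_span hg) n
  refine Limits.IsInitial.hasInitial (X := StructuredArrow.mk (Y := L') η) ?_
  refine Limits.IsInitial.ofUniqueHom (fun Y => StructuredArrow.homMk
    (ObjectProperty.homMk ((hU' Y.right).2 Y.hom).choose) ((hU' Y.right).2 Y.hom).choose_spec) fun Y m => ?_
  refine StructuredArrow.ext _ _ ?_
  refine (ObjectProperty.ι (DRing.IsDerivedComplete I)).map_injective ?_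
  exact (hU' Y.right).1 ((StructuredArrow.w m).trans ((hU' Y.right).2 Y.hom).choose_spec.symm)

/-- Derived completion agrees with any completion satisfying the universal property. -/
theorem exists_iso_completion (I : Ideal A) [DRing.HasDerivedCompletion I] {s : Finset A}
    (hs : Ideal.span (s : Set A) = I) {K L : Dual.D A} (η : K ⟶ L) (hL : ∀ g ∈ s, DCObj g L)
    (hU : ∀ E : Dual.D A, (∀ g ∈ s, DCObj g E) → Function.Bijective (fun ψ : L ⟶ E => η ≫ ψ)) :
    ∃ e : ((DRing.derivedCompletion I).obj K).obj ≅ L, DRing.toDerivedCompletion I K ≫ e.hom = η := by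
  have hX : ∀ g ∈ s, DCObj g ((DRing.derivedCompletion I).obj K).obj := fun g hg n =>
    (isDerivedComplete_iff I _).1 ((DRing.derivedCompletion I).obj K).property g (hs ▸ Ideal.subset_span hg) n
  let L' : DRing.DComp I := ⟨L, isDerivedComplete_of_span hs L hL⟩
  let adj := DRing.derivedCompletionAdj I
  let u : (DRing.derivedCompletion I).obj K ⟶ L' := (adj.homEquiv K L').symm η
  have hu : DRing.toDerivedCompletion I K ≫ (ObjectProperty.ι (DRing.IsDerivedComplete I)).map u = η :=
    (Adjunction.homEquiv_unit adj K L' u).symm.trans ((adj.homEquiv K L').apply_symm_apply η)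
  obtain ⟨v, hv⟩ := (hU _ hX).2 (DRing.toDerivedCompletion I K)
  refine ⟨⟨(ObjectProperty.ι (DRing.IsDerivedComplete I)).map u, v, ?_, ?_⟩, hu⟩
  · have : u ≫ ObjectProperty.homMk v = 𝟙 _ := (adj.homEquiv K _).injective (by
      simp only [Adjunction.homEquiv_unit, Functor.map_comp, CategoryTheory.Functor.map_id, Category.comp_id]
      rw [← Category.assoc]
      exact ((congrArg (· ≫ v) hu).trans hv).trans (Category.comp_id _).symm)
    exact congrArg (ObjectProperty.ι (DRing.IsDerivedComplete I)).map this
  · refine (hU L hL).1 ?_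
    change η ≫ v ≫ (ObjectProperty.ι (DRing.IsDerivedComplete I)).map u = η ≫ 𝟙 L
    rw [← Category.assoc, show η ≫ v = _ from hv, Category.comp_id]
    exact hu

/-- Degrees of the derived completion. -/
theorem subsingleton_HD_completion (I : Ideal A) [DRing.HasDerivedCompletion I] {s : Finset A}
    (hs : Ideal.span (s : Set A) = I) (K : Dual.D A) (i : ℤ)
    (h : ∀ k : ℕ, k ≤ s.card → Subsingleton (Dual.HD A K (i + k))) :
    Subsingleton (Dual.HD A ((DRing.derivedCompletion I).obj K).obj i) := by
  obtain ⟨L, η, hL, hU, hB⟩ := exists_completion s K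
  obtain ⟨e, -⟩ := exists_iso_completion I hs η hL hU
  haveI := hB i h
  exact ((DerivedCategory.homologyFunctor (ModuleCat.{u} A) i).mapIso e).toLinearEquiv.subsingleton

end GrothLib.DCpl
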