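import Mathlib

/-!
# The telescope of an element acting on a module

`DCMod f M` says that `(x_j) ↦ (x_j - f x_{j+1})` is bijective on sequences in `M`, i.e. the limit and
the derived limit of `⋯ → M → M → M` (multiplication by `f`) both vanish.
-/

set_option autoImplicit false
universe u v

namespace GrothLib.DCpl

variable {A : Type u} [CommRing A]

/-- The map `(x_j) ↦ (x_j - f x_{j+1})`. -/
def telMap (f : A) (M : Type v) [AddCommGroup M] [Module A M] : (ℕ → M) →ₗ[A] (ℕ → M) where
  toFun x j := x j - f • x (j + 1)
  map_add' x y := by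
    funext j
    simp only [Pi.add_apply, smul_add]
    abel
  map_smul' a x := by
    funext j
    simp only [Pi.smul_apply, RingHom.id_apply, smul_sub, smul_comm f a]

@[simp] lemma telMap_apply (f : A) {M : Type v} [AddCommGroup M] [Module A M] (x : ℕ → M) (j : ℕ) :
    telMap f M x j = x j - f • x (j + 1) := rfl

/-- Derived completeness of a module with respect to one element, in terms of the telescope. -/
def DCMod (f : A) (M : Type v) [AddCommGroup M] [Module A M] : Prop :=
  Function.Bijective (telMap f M)

variable {f : A} {M N P : Type v} [AddCommGroup M] [Module A M] [AddCommGroup N] [Module A N]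
  [AddCommGroup P] [Module A P]

lemma telMap_map (u : M →ₗ[A] N) (x : ℕ → M) :
    telMap f N (fun j => u (x j)) = fun j => u (telMap f M x j) := by
  funext j
  simp

lemma dcMod_of_subsingleton (h : Subsingleton M) : DCMod f M :=
  ⟨fun _ _ _ => Subsingleton.elim _ _, fun y => ⟨y, Subsingleton.elim _ _⟩⟩

lemma dcMod_of_equiv (e : M ≃ₗ[A] N) (h : DCMod f M) : DCMod f N := by
  refine ⟨fun x y hxy => ?_, fun y => ?_⟩
  · have h1 : telMap f M (fun j => e.symm (x j)) = telMap f M (fun j => e.symm (y j)) := by
      rw [← LinearEquiv.coe_coe, telMap_map, telMap_map, hxy]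
    funext j
    exact e.symm.injective (congrFun (h.1 h1) j)
  · obtain ⟨x, hx⟩ := h.2 fun j => e.symm (y j)
    refine ⟨fun j => e (x j), ?_⟩
    rw [← LinearEquiv.coe_coe, telMap_map, hx]
    simp

/-- An `f`-divisible compatible sequence in a derived complete module vanishes. -/
lemma DCMod.eq_zero (h : DCMod f M) (x : ℕ → M) (hx : ∀ j, x j = f • x (j + 1)) (j : ℕ) : x j = 0 := by
  have : telMap f M x = telMap f M 0 := by
    funext i
    simp [← hx i]
  exact congrFun (h.1 this) j

/-- Extensions of derived complete modules. -/
lemma dcMod_of_exact {u : M →ₗ[A] N} {v : N →ₗ[A] P} (hu : Function.Injective u)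
    (hv : Function.Surjective v) (he : Function.Exact u v) (hM : DCMod f M) (hP : DCMod f P) :
    DCMod f N := by
  refine ⟨(injective_iff_map_eq_zero _).2 fun x hx => ?_, fun y => ?_⟩
  · have h1 : (fun j => v (x j)) = 0 := by
      apply hP.1
      rw [telMap_map, hx]
      funext j
      simp
    choose m hm using fun j => (he (x j)).1 (congrFun h1 j)
    have h2 : m = 0 := by
      apply hM.1
      funext j
      apply hu
      have := congrFun hx j
      rw [telMap_apply, Pi.zero_apply] at this
      simp [hm, this]
    funext j
    rw [← hm j, h2]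
    simp
  · obtain ⟨p, hp⟩ := hP.2 fun j => v (y j)
    choose x hx using fun j => hv (p j)
    have h1 : ∀ j, v (y j - telMap f N x j) = 0 := fun j => by
      rw [map_sub, sub_eq_zero, ← show telMap f P (fun i => v (x i)) j = v (telMap f N x j) from
        congrFun (telMap_map v x) j]
      simp only [funext hx, ← congrFun hp j]
    choose m hm using fun j => (he _).1 (h1 j)
    obtain ⟨n, hn⟩ := hM.2 m
    refine ⟨x + fun j => u (n j), ?_⟩
    rw [map_add, telMap_map, hn]
    funext j
    rw [Pi.add_apply, hm]
    abel

/-- Kernels of maps of derived complete modules. -/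
lemma dcMod_ker (u : M →ₗ[A] N) (hM : DCMod f M) (hN : DCMod f N) : DCMod f (LinearMap.ker u) := by
  refine ⟨fun x y hxy => ?_, fun y => ?_⟩
  · have := hM.1 (a₁ := fun j => ((x j : LinearMap.ker u) : M)) (a₂ := fun j => (y j : M))
      (funext fun j => congrArg Subtype.val (congrFun hxy j))
    funext j
    exact Subtype.ext (congrFun this j)
  · obtain ⟨x, hx⟩ := hM.2 fun j => (y j : M)
    have h0 : (fun j => u (x j)) = 0 := by
      apply hN.1
      rw [telMap_map, hx]
      funext j
      simp
    exact ⟨fun j => ⟨x j, congrFun h0 j⟩, funext fun j => Subtype.ext (congrFun hx j)⟩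

/-- Cokernels of maps of derived complete modules. -/
lemma dcMod_coker (u : M →ₗ[A] N) (hM : DCMod f M) (hN : DCMod f N) :
    DCMod f (N ⧸ LinearMap.range u) := by
  refine ⟨(injective_iff_map_eq_zero _).2 fun x hx => ?_, fun y => ?_⟩
  · choose z hz using fun j => Submodule.mkQ_surjective (LinearMap.range u) (x j)
    have h1 : ∀ j, telMap f N z j ∈ LinearMap.range u := fun j => by
      rw [← Submodule.Quotient.mk_eq_zero]
      have := congrFun hx j
      rw [← funext hz, telMap_map] at this
      exact this
    choose m hm using h1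
    obtain ⟨n, hn⟩ := hM.2 m
    have h2 : (fun j => z j - u (n j)) = 0 := by
      apply hN.1
      rw [show (fun j => z j - u (n j)) = z - fun j => u (n j) from rfl, map_sub, map_zero, telMap_map, hn,
        funext hm]
      exact sub_self _
    funext j
    rw [← hz j, Pi.zero_apply, Submodule.mkQ_apply, Submodule.Quotient.mk_eq_zero]
    exact ⟨n j, (sub_eq_zero.1 (congrFun h2 j)).symm⟩
  · choose z hz using fun j => Submodule.mkQ_surjective (LinearMap.range u) (y j)
    obtain ⟨x, hx⟩ := hN.2 z
    refine ⟨fun j => (LinearMap.range u).mkQ (x j), ?_⟩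
    rw [telMap_map, hx]
    exact funext hz

section Resolution

variable (f)

/-- The telescope on finitely supported sequences. -/
noncomputable def telTail : (ℕ →₀ A) →ₗ[A] (ℕ →₀ A) :=
  Finsupp.linearCombination A fun n => Finsupp.single n 1 - f • Finsupp.single (n + 1) 1

/-- The map onto the localization. -/
noncomputable def telAug : (ℕ →₀ A) →ₗ[A] Localization.Away f :=
  Finsupp.linearCombination A fun n => IsLocalization.Away.invSelf (S := Localization.Away f) f ^ n

lemma telTail_single (n : ℕ) :
    telTail f (Finsupp.single n 1) = Finsupp.single n 1 - f • Finsupp.single (n + 1) 1 := by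
  simp [telTail]

lemma linearCombination_telTail {N : Type v} [AddCommGroup N] [Module A N] (x : ℕ → N) :
    (Finsupp.linearCombination A x) ∘ₗ telTail f = Finsupp.linearCombination A (telMap f N x) := by
  refine Finsupp.basisSingleOne.ext fun n => ?_
  simp [telTail_single]

lemma telTail_injective : Function.Injective (telTail f) := by
  refine (injective_iff_map_eq_zero _).2 fun x hx => ?_
  have h0 : (Finsupp.lapply 0).comp (telTail f) = Finsupp.lapply 0 := by
    refine Finsupp.basisSingleOne.ext fun n => ?_
    simp [telTail_single, Finsupp.single_apply]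
  have hs : ∀ m, (Finsupp.lapply (m + 1)).comp (telTail f) =
      Finsupp.lapply (m + 1) - f • Finsupp.lapply m := by
    intro m
    refine Finsupp.basisSingleOne.ext fun n => ?_
    simp [telTail_single, Finsupp.single_apply]
  ext m
  induction m with
  | zero => simpa [hx] using (DFunLike.congr_fun h0 x).symm
  | succ m ih =>
    have := DFunLike.congr_fun (hs m) x
    simp [hx, ih] at this
    simpa using this.symm

lemma telAug_single (n : ℕ) (a : A) :
    telAug f (Finsupp.single n a) = a • IsLocalization.Away.invSelf (S := Localization.Away f) f ^ n := by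
  simp [telAug]

lemma smul_invSelf : f • IsLocalization.Away.invSelf (S := Localization.Away f) f = 1 := by
  rw [Algebra.smul_def]
  exact IsLocalization.Away.mul_invSelf f

lemma telAug_comp_telTail : (telAug f).comp (telTail f) = 0 := by
  refine Finsupp.basisSingleOne.ext fun n => ?_
  simp only [Finsupp.coe_basisSingleOne, LinearMap.comp_apply, telTail_single, map_sub, map_smul, telAug_single,
    one_smul, LinearMap.zero_apply]
  rw [pow_succ', ← smul_mul_assoc, smul_invSelf, one_mul, sub_self]

lemma telAug_surjective : Function.Surjective (telAug f) := by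
  intro z
  obtain ⟨a, ⟨_, m, rfl⟩, rfl⟩ := IsLocalization.exists_mk'_eq (Submonoid.powers f) z
  refine ⟨Finsupp.single m a, ?_⟩
  rw [telAug_single, Algebra.smul_def, IsLocalization.eq_mk'_iff_mul_eq, mul_assoc, map_pow, ← mul_pow,
    mul_comm (IsLocalization.Away.invSelf f), IsLocalization.Away.mul_invSelf, one_pow, mul_one]

lemma single_sub_mem_range (n : ℕ) (a : A) (k : ℕ) :
    Finsupp.single n a - Finsupp.single (n + k) (f ^ k * a) ∈ LinearMap.range (telTail f) := by
  induction k with
  | zero => simp
  | succ k ih =>
    have : Finsupp.single (n + k) (f ^ k * a) - Finsupp.single (n + (k + 1)) (f ^ (k + 1) * a) ∈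
        LinearMap.range (telTail f) := by
      refine ⟨(f ^ k * a) • Finsupp.single (n + k) 1, ?_⟩
      rw [map_smul, telTail_single, smul_sub, smul_smul, Finsupp.smul_single', Finsupp.smul_single', mul_one, mul_one,
        pow_succ, mul_right_comm, add_assoc]
    have := add_mem ih this
    rwa [sub_add_sub_cancel] at this

lemma exists_single_rep (x : ℕ →₀ A) :
    ∃ N : ℕ, ∀ M, N ≤ M → ∃ a : A, x - Finsupp.single M a ∈ LinearMap.range (telTail f) := by
  induction x using Finsupp.induction_linear with
  | zero => exact ⟨0, fun M _ => ⟨0, by simp⟩⟩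
  | add x y hx hy =>
    obtain ⟨N, hN⟩ := hx
    obtain ⟨N', hN'⟩ := hy
    refine ⟨max N N', fun M hM => ?_⟩
    obtain ⟨a, ha⟩ := hN M (le_of_max_le_left hM)
    obtain ⟨b, hb⟩ := hN' M (le_of_max_le_right hM)
    refine ⟨a + b, ?_⟩
    rw [Finsupp.single_add, add_sub_add_comm]
    exact add_mem ha hb
  | single n a =>
    refine ⟨n, fun M hM => ⟨f ^ (M - n) * a, ?_⟩⟩
    have := single_sub_mem_range f n a (M - n)
    rwa [Nat.add_sub_cancel' hM] at this

lemma exact_telTail_telAug : Function.Exact (telTail f) (telAug f) := by
  intro x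
  refine ⟨fun hx => ?_, ?_⟩
  · obtain ⟨N, hN⟩ := exists_single_rep f x
    obtain ⟨a, ha⟩ := hN N le_rfl
    have hle : LinearMap.range (telTail f) ≤ LinearMap.ker (telAug f) :=
      LinearMap.range_le_ker_iff.2 (telAug_comp_telTail f)
    have h1 := hle ha
    rw [LinearMap.mem_ker, map_sub, hx, zero_sub, neg_eq_zero, telAug_single, Algebra.smul_def] at h1
    have hu : IsUnit (IsLocalization.Away.invSelf (S := Localization.Away f) f) :=
      IsUnit.of_mul_eq_one_right _ (IsLocalization.Away.mul_invSelf f)
    rw [(hu.pow N).mul_left_eq_zero, IsLocalization.map_eq_zero_iff (Submonoid.powers f)] at h1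
    obtain ⟨⟨_, m, rfl⟩, hm⟩ := h1
    have h2 := single_sub_mem_range f N a m
    rw [show f ^ m * a = 0 from hm, Finsupp.single_zero, sub_zero] at h2
    have := add_mem ha h2
    rwa [sub_add_cancel] at this
  · rintro ⟨y, rfl⟩
    exact DFunLike.congr_fun (telAug_comp_telTail f) y

end Resolution

end GrothLib.DCpl
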