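import Groth.Prelude.Def_DRing3
import Groth.Agent.Lib.DCxRing.DComplete.HomProj
import Groth.Agent.Lib.DCxRing.DComplete.Telescope
import Mathlib.Algebra.Homology.DerivedCategory.SingleTriangle

/-!
# Derived completeness in terms of cohomology modules
-/

set_option autoImplicit false
set_option maxHeartbeats 800000
universe u

open CategoryTheory CategoryTheory.Limits Pretriangulated

attribute [local instance] HasDerivedCategory.standard

namespace GrothLib.DCpl

section Triangle

variable {C : Type*} [Category C] [Preadditive C] [HasZeroObject C] [HasShift C ℤ]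
  [∀ n : ℤ, (shiftFunctor C n).Additive] [Pretriangulated C]

/-- No maps out of the third vertex iff precomposition with the first map is bijective. -/
theorem subsingleton_iff_precomp_bijective (T : Triangle C) (hT : T ∈ distTriang C) (X : C) :
    (∀ n : ℤ, Subsingleton (T.obj₃ ⟶ X⟦n⟧)) ↔
      ∀ n : ℤ, Function.Bijective (fun ψ : T.obj₂ ⟶ X⟦n⟧ => T.mor₁ ≫ ψ) := by
  constructor
  · refine fun h n => ⟨fun a b hab => ?_, fun b => ?_⟩
    · obtain ⟨g, hg⟩ := T.yoneda_exact₂ hT (a - b) (by rw [Preadditive.comp_sub, sub_eq_zero]; exact hab)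
      rw [(h n).elim g 0, comp_zero] at hg
      exact sub_eq_zero.1 hg
    · let e := (shiftFunctorAdd' C n 1 (n + 1) rfl).app X
      have h0 : T.mor₃ ≫ b⟦(1 : ℤ)⟧' = 0 := by
        rw [← cancel_mono e.inv, zero_comp]
        exact (h (n + 1)).elim _ _
      obtain ⟨g, hg⟩ := T.rotate.yoneda_exact₃ (rot_of_distTriang _ hT) (b⟦(1 : ℤ)⟧') h0
      obtain ⟨g', hg'⟩ : ∃ g' : T.obj₂⟦(1 : ℤ)⟧ ⟶ (X⟦n⟧)⟦(1 : ℤ)⟧, b⟦(1 : ℤ)⟧' = (-T.mor₁⟦(1 : ℤ)⟧') ≫ g' :=
        ⟨g, hg⟩
      obtain ⟨b', hb'⟩ : ∃ b' : T.obj₂ ⟶ X⟦n⟧, b'⟦(1 : ℤ)⟧' = -g' :=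
        (shiftFunctor C (1 : ℤ)).map_surjective _
      refine ⟨b', (shiftFunctor C (1 : ℤ)).map_injective ?_⟩
      rw [hg', Functor.map_comp, hb', Preadditive.comp_neg, Preadditive.neg_comp]
  · intro h n
    suffices ∀ ξ : T.obj₃ ⟶ X⟦n⟧, ξ = 0 from ⟨fun a b => by rw [this a, this b]⟩
    intro ξ
    have h1 : T.mor₂ ≫ ξ = 0 := by
      apply (h n).1
      simp only [← Category.assoc, comp_distTriang_mor_zero₁₂ _ hT, zero_comp, comp_zero]
    obtain ⟨η, rfl⟩ := T.yoneda_exact₃ hT ξ h1
    let e := (shiftFunctorAdd' C (n - 1) 1 n (by omega)).app X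
    obtain ⟨η', hη'⟩ := (shiftFunctor C (1 : ℤ)).map_surjective (η ≫ e.hom)
    obtain ⟨b, rfl⟩ := (h (n - 1)).2 η'
    rw [Functor.map_comp] at hη'
    rw [← cancel_mono e.hom, zero_comp, Category.assoc, ← hη', ← Category.assoc,
      comp_distTriang_mor_zero₃₁ _ hT, zero_comp]

end Triangle

variable {A : Type u} [CommRing A]

/-- The telescope resolution of a localization. -/
noncomputable def telSC (f : A) : ShortComplex (ModuleCat.{u} A) :=
  ShortComplex.mk (X₁ := ModuleCat.of A (ℕ →₀ A)) (X₂ := ModuleCat.of A (ℕ →₀ A))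
    (X₃ := ModuleCat.of A (Localization.Away f)) (ModuleCat.ofHom (telTail f)) (ModuleCat.ofHom (telAug f))
    (ModuleCat.hom_ext (telAug_comp_telTail f))

lemma telSC_shortExact (f : A) : (telSC f).ShortExact := by
  haveI : Mono (telSC f).f := (ModuleCat.mono_iff_injective _).2 (telTail_injective f)
  haveI : Epi (telSC f).g := (ModuleCat.epi_iff_surjective _).2 (telAug_surjective f)
  exact ⟨(ShortComplex.ShortExact.moduleCat_exact_iff_function_exact _).2 (exact_telTail_telAug f)⟩

/-- Maps out of a free module of countable rank as sequences. -/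
noncomputable def seqEquiv (M : ModuleCat.{u} A) : (ℕ → M) ≃ (ModuleCat.of A (ℕ →₀ A) ⟶ M) where
  toFun x := ModuleCat.ofHom (Finsupp.linearCombination A x)
  invFun g n := g.hom (Finsupp.single n 1)
  left_inv x := by
    funext n
    simp
  right_inv g := by
    ext n
    simp

lemma precomp_bijective_iff_dcMod (f : A) (M : ModuleCat.{u} A) :
    Function.Bijective (fun g : (telSC f).X₂ ⟶ M => (telSC f).f ≫ g) ↔ DCMod f M := by
  have e : (fun g : ModuleCat.of A (ℕ →₀ A) ⟶ M => ModuleCat.ofHom (telTail f) ≫ g) ∘ seqEquiv M =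
      seqEquiv M ∘ telMap f M := by
    funext x
    exact ModuleCat.hom_ext (linearCombination_telTail f x)
  change Function.Bijective (fun g : ModuleCat.of A (ℕ →₀ A) ⟶ M => ModuleCat.ofHom (telTail f) ≫ g) ↔ _
  rw [← Function.Bijective.of_comp_iff _ (seqEquiv M).bijective, e,
    Function.Bijective.of_comp_iff' (seqEquiv M).bijective]
  rfl

/-- Derived completeness with respect to one element. -/
theorem subsingleton_hom_away_iff (f : A) (K : Dual.D A) :
    (∀ n : ℤ, Subsingleton (Dual.inD A (Localization.Away f) ⟶ K⟦n⟧)) ↔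
      ∀ n : ℤ, DCMod f (Dual.HD A K n) := by
  have hT := (telSC_shortExact f).singleTriangle_distinguished
  haveI : Projective (telSC f).X₁ := (DR.projective_iff (ModuleCat.of A (ℕ →₀ A))).1 inferInstance
  haveI : Projective (telSC f).X₂ := (DR.projective_iff (ModuleCat.of A (ℕ →₀ A))).1 inferInstance
  refine (subsingleton_iff_precomp_bijective _ hT K).trans (forall_congr' fun n => ?_)
  rw [← precomp_bijective_iff_dcMod f, ← Function.Bijective.of_comp_iff _ (homHn_bijective (telSC f).X₂ K n),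
    ← show homHn (telSC f).X₁ K n ∘ (fun ψ => (DerivedCategory.singleFunctor (ModuleCat.{u} A) 0).map (telSC f).f ≫ ψ) =
      (fun g => (telSC f).f ≫ g) ∘ homHn (telSC f).X₂ K n from funext fun ξ => homHn_precomp _ ξ]
  exact (Function.Bijective.of_comp_iff' (homHn_bijective (telSC f).X₁ K n) _).symm

theorem isDerivedComplete_iff (I : Ideal A) (K : Dual.D A) :
    DRing.IsDerivedComplete I K ↔ ∀ f ∈ I, ∀ n : ℤ, DCMod f (Dual.HD A K n) :=
  forall₂_congr fun f _ => subsingleton_hom_away_iff f K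

theorem isDerivedComplete_inD_iff (I : Ideal A) (M : Type u) [AddCommGroup M] [Module A M] :
    DRing.IsDerivedComplete I (Dual.inD A M) ↔ ∀ f ∈ I, DCMod f M := by
  rw [isDerivedComplete_iff]
  refine forall₂_congr fun f _ => ⟨fun h => dcMod_of_equiv (DR.inDHomologyIso M).toLinearEquiv (h 0),
    fun h n => ?_⟩
  by_cases hn : n = 0
  · subst hn
    exact dcMod_of_equiv (DR.inDHomologyIso M).toLinearEquiv.symm h
  · exact dcMod_of_subsingleton (DR.subsingleton_HD_inD M n hn)

end GrothLib.DCpl
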