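import Groth.Agent.Lib.DCxRing.DComplete.Completion
import Groth.Agent.Lib.DCxRing.Reduction
import Groth.Agent.Lib.DCxKFlat.LBaseKFlat
import Mathlib.Algebra.Homology.DerivedCategory.HomologySequence
import Mathlib.CategoryTheory.Monoidal.Linear

/-!
# Nakayama's lemma for derived complete objects
-/

set_option autoImplicit false
set_option maxHeartbeats 800000
universe u

open CategoryTheory CategoryTheory.Limits MonoidalCategory Pretriangulated

attribute [local instance] HasDerivedCategory.standard

namespace GrothLib.DCpl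

variable {A : Type u} [CommRing A]

open DerivedCategory in
/-- Vanishing of one cohomology module of a cofibre. -/
lemma exactAt_cone_of_epi_mono {P Q : DRing.Cx A} (g : P ⟶ Q) (i : ℤ)
    (h1 : Epi (HomologicalComplex.homologyMap g i)) (h2 : Mono (HomologicalComplex.homologyMap g (i + 1))) :
    (CochainComplex.mappingCone g).ExactAt i := by
  have hT := DerivedCategory.mappingCone_triangle_distinguished g
  have e := NatIso.naturality_1 (DerivedCategory.homologyFunctorFactors (ModuleCat.{u} A) i) g
  have e' := NatIso.naturality_1 (DerivedCategory.homologyFunctorFactors (ModuleCat.{u} A) (i + 1)) g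
  simp only [Functor.comp_map] at e e'
  haveI hE : Epi ((DerivedCategory.homologyFunctor (ModuleCat.{u} A) i).map (DerivedCategory.Q.map g)) := by
    have hh : Epi ((HomologicalComplex.homologyFunctor (ModuleCat.{u} A) (ComplexShape.up ℤ) i).map g) := h1
    have hq : (DerivedCategory.homologyFunctor (ModuleCat.{u} A) i).map (DerivedCategory.Q.map g) =
        (homologyFunctorFactors (ModuleCat.{u} A) i).hom.app P ≫
          (HomologicalComplex.homologyFunctor (ModuleCat.{u} A) (ComplexShape.up ℤ) i).map g ≫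
            (homologyFunctorFactors (ModuleCat.{u} A) i).inv.app Q := by
      simp only [← e, Category.assoc, Iso.hom_inv_id_app, Iso.hom_inv_id_app_assoc]
      exact (Category.comp_id _).symm
    rw [hq]
    infer_instance
  haveI hM : Mono ((DerivedCategory.homologyFunctor (ModuleCat.{u} A) (i + 1)).map (DerivedCategory.Q.map g)) := by
    have hh : Mono ((HomologicalComplex.homologyFunctor (ModuleCat.{u} A) (ComplexShape.up ℤ) (i + 1)).map g) := h2
    have hq : (DerivedCategory.homologyFunctor (ModuleCat.{u} A) (i + 1)).map (DerivedCategory.Q.map g) =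
        (homologyFunctorFactors (ModuleCat.{u} A) (i + 1)).hom.app P ≫
          (HomologicalComplex.homologyFunctor (ModuleCat.{u} A) (ComplexShape.up ℤ) (i + 1)).map g ≫
            (homologyFunctorFactors (ModuleCat.{u} A) (i + 1)).inv.app Q := by
      simp only [← e', Category.assoc, Iso.hom_inv_id_app, Iso.hom_inv_id_app_assoc]
      exact (Category.comp_id _).symm
    rw [hq]
    exact @mono_comp _ _ _ _ _ _ (IsIso.mono_of_iso _) _ (@mono_comp _ _ _ _ _ _ hh _ (IsIso.mono_of_iso _))
  rw [DR.exactAt_iff]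
  have e2 := HomologySequence.exact₃ _ hT i (i + 1) rfl
  have hz : (DerivedCategory.homologyFunctor (ModuleCat.{u} A) i).map
      (DerivedCategory.Q.mapTriangle.obj (CochainComplex.mappingCone.triangle g)).mor₂ = 0 :=
    (HomologySequence.epi_homologyMap_mor₁_iff _ hT i).1 hE
  have hd : HomologySequence.δ (DerivedCategory.Q.mapTriangle.obj (CochainComplex.mappingCone.triangle g)) i (i + 1)
      rfl = 0 := by
    haveI : Mono ((DerivedCategory.homologyFunctor (ModuleCat.{u} A) (i + 1)).map
      (DerivedCategory.Q.mapTriangle.obj (CochainComplex.mappingCone.triangle g)).mor₁) := hM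
    rw [← cancel_mono ((DerivedCategory.homologyFunctor (ModuleCat.{u} A) (i + 1)).map
      (DerivedCategory.Q.mapTriangle.obj (CochainComplex.mappingCone.triangle g)).mor₁),
      HomologySequence.δ_comp _ hT i (i + 1), zero_comp]
  exact ModuleCat.subsingleton_of_isZero (e2.isZero_X₂ hz hd)

/-- The map of complexes induced by a map of modules. -/
noncomputable def tensMap (P : DRing.Cx A) {M N : ModuleCat.{u} A} (φ : M ⟶ N) :
    DRing.tensorCx P M ⟶ DRing.tensorCx P N where
  f j := P.X j ◁ φ
  comm' j k _ := (whisker_exchange (P.d j k) φ).symm.symm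

lemma tensMap_comp (P : DRing.Cx A) {M N L : ModuleCat.{u} A} (φ : M ⟶ N) (ψ : N ⟶ L) :
    tensMap P (φ ≫ ψ) = tensMap P φ ≫ tensMap P ψ :=
  HomologicalComplex.hom_ext _ _ fun j => MonoidalCategory.whiskerLeft_comp _ _ _

lemma tensMap_shortExact {P : DRing.Cx A} (hP : DRing.TermwiseFlat P) {S : ShortComplex (ModuleCat.{u} A)}
    (hS : S.ShortExact) : (ShortComplex.mk (tensMap P S.f) (tensMap P S.g) (by
      rw [← tensMap_comp, S.zero]
      exact HomologicalComplex.hom_ext _ _ fun j => MonoidalPreadditive.whiskerLeft_zero)).ShortExact :=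
  HomologicalComplex.shortExact_of_degreewise_shortExact _ fun j => by
    haveI := hP j
    exact { exact := (ShortComplex.ShortExact.moduleCat_exact_iff_function_exact _).2
              (Module.Flat.lTensor_exact (R := A) (P.X j)
                ((ShortComplex.ShortExact.moduleCat_exact_iff_function_exact S).1 hS.exact))
            mono_f := (ModuleCat.mono_iff_injective _).2
              (Module.Flat.lTensor_preserves_injective_linearMap (M := P.X j) S.f.hom
                ((ModuleCat.mono_iff_injective S.f).1 hS.mono_f))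
            epi_g := (ModuleCat.epi_iff_surjective _).2
              (LinearMap.lTensor_surjective (P.X j) ((ModuleCat.epi_iff_surjective S.g).1 hS.epi_g)) }

/-- Positive cohomology vanishes for the tensor product of `P` with every module killed by the set `S`. -/
def PosVanishing (P : DRing.Cx A) (S : Set A) (b : ℤ) : Prop :=
  ∀ (N : ModuleCat.{u} A), (∀ g ∈ S, ∀ x : N, g • x = 0) → ∀ i : ℤ, b < i → (DRing.tensorCx P N).ExactAt i

lemma posVanishing_cone {P : DRing.Cx A} (hP : DRing.TermwiseFlat P) {f : A} {S : Set A} {b : ℤ}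
    (h : PosVanishing P (insert f S) b) : PosVanishing (CochainComplex.mappingCone (f • 𝟙 P)) S b := by
  intro N hN i hi
  let μ : N →ₗ[A] N := LinearMap.lsmul A N f
  let K := LinearMap.ker μ
  let J := LinearMap.range μ
  let S₁ : ShortComplex (ModuleCat.{u} A) := ShortComplex.mk (X₁ := ModuleCat.of A K) (X₂ := N) (X₃ := ModuleCat.of A J)
    (ModuleCat.ofHom (X := ↥K) K.subtype) (ModuleCat.ofHom μ.rangeRestrict)
    (ModuleCat.hom_ext (LinearMap.ext fun x => Subtype.ext x.2))
  let S₂ : ShortComplex (ModuleCat.{u} A) := ShortComplex.mk (X₁ := ModuleCat.of A J) (X₂ := N)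
    (X₃ := ModuleCat.of A (N ⧸ J)) (ModuleCat.ofHom (X := ↥J) J.subtype) (ModuleCat.ofHom J.mkQ)
    (ModuleCat.hom_ext (LinearMap.ext fun x => (Submodule.Quotient.mk_eq_zero J).2 x.2))
  have hS₁ : S₁.ShortExact :=
    { exact := (ShortComplex.ShortExact.moduleCat_exact_iff_function_exact S₁).2 (by
        intro x
        refine ⟨fun hx => ⟨⟨x, congrArg Subtype.val hx⟩, rfl⟩, ?_⟩
        rintro ⟨y, rfl⟩
        exact Subtype.ext y.2)
      mono_f := (ModuleCat.mono_iff_injective _).2 Subtype.val_injective
      epi_g := (ModuleCat.epi_iff_surjective _).2 μ.surjective_rangeRestrict }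
  have hS₂ : S₂.ShortExact :=
    { exact := (ShortComplex.ShortExact.moduleCat_exact_iff_function_exact S₂).2 (LinearMap.exact_subtype_mkQ J)
      mono_f := (ModuleCat.mono_iff_injective _).2 Subtype.val_injective
      epi_g := (ModuleCat.epi_iff_surjective _).2 J.mkQ_surjective }
  have hK : ∀ j : ℤ, b < j → (DRing.tensorCx P (ModuleCat.of A K)).ExactAt j := h _ fun g hg x => by
    rcases Set.mem_insert_iff.1 hg with rfl | hg
    · exact Subtype.ext x.2
    · exact Subtype.ext (hN g hg x)
  have hQ : ∀ j : ℤ, b < j → (DRing.tensorCx P (ModuleCat.of A (N ⧸ J))).ExactAt j := h _ fun g hg x => by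
    obtain ⟨y, rfl⟩ := J.mkQ_surjective x
    rcases Set.mem_insert_iff.1 hg with rfl | hg
    · rw [← map_smul]
      exact (Submodule.Quotient.mk_eq_zero J).2 ⟨y, rfl⟩
    · rw [← map_smul, hN g hg y, map_zero]
  have hT₁ := tensMap_shortExact hP hS₁
  have hT₂ := tensMap_shortExact hP hS₂
  have hfac : ((tensorRight N).mapHomologicalComplex (ComplexShape.up ℤ)).map (f • 𝟙 P) =
      tensMap P S₁.g ≫ tensMap P S₂.f := by
    rw [← tensMap_comp]
    refine HomologicalComplex.hom_ext _ _ fun j => ?_
    have : S₁.g ≫ S₂.f = f • 𝟙 N := rfl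
    change (f • 𝟙 (P.X j)) ▷ N = P.X j ◁ (S₁.g ≫ S₂.f)
    rw [this, MonoidalLinear.whiskerLeft_smul, MonoidalLinear.smul_whiskerRight, MonoidalCategory.id_whiskerRight,
      MonoidalCategory.whiskerLeft_id]
  refine (DR.exactAt_iff _ i).2 ?_
  refine (DR.exactAt_iff _ i).1 (HomologicalComplex.ExactAt.of_iso ?_
    (CochainComplex.mappingCone.mapHomologicalComplexIso (f • 𝟙 P) (tensorRight N)).symm)
  refine exactAt_cone_of_epi_mono _ i ?_ ?_
  · rw [hfac]
    erw [HomologicalComplex.homologyMap_comp]
    have e1 : Epi (HomologicalComplex.homologyMap (tensMap P S₁.g) i) :=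
      (hT₁.homology_exact₃ i (i + 1) rfl).epi_f
        ((HomologicalComplex.exactAt_iff_isZero_homology _ _).1 (hK (i + 1) (by omega)) |>.eq_of_tgt _ _)
    have e2 : Epi (HomologicalComplex.homologyMap (tensMap P S₂.f) i) :=
      (hT₂.homology_exact₂ i).epi_f ((HomologicalComplex.exactAt_iff_isZero_homology _ i).1 (hQ i hi)
        |>.eq_of_tgt _ _)
    exact @epi_comp _ _ _ _ _ _ e1 _ e2
  · rw [hfac]
    erw [HomologicalComplex.homologyMap_comp]
    have e1 : Mono (HomologicalComplex.homologyMap (tensMap P S₁.g) (i + 1)) :=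
      (hT₁.homology_exact₂ (i + 1)).mono_g ((HomologicalComplex.exactAt_iff_isZero_homology _ _).1
        (hK (i + 1) (by omega)) |>.eq_of_src _ _)
    have e2 : Mono (HomologicalComplex.homologyMap (tensMap P S₂.f) (i + 1)) :=
      (hT₂.homology_exact₁ i (i + 1) rfl).mono_g ((HomologicalComplex.exactAt_iff_isZero_homology _ _).1
        (hQ i hi) |>.eq_of_src _ _)
    exact @mono_comp _ _ _ _ _ _ e1 _ e2

lemma termwiseFlat_cone {P : DRing.Cx A} (hP : DRing.TermwiseFlat P) (g : P ⟶ P) :
    DRing.TermwiseFlat (CochainComplex.mappingCone g) :=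
  KF.flatTerms_mappingCone g hP hP

open DerivedCategory in
lemma homology_smul_id (P : DRing.Cx A) (f : A) (i : ℤ) :
    (DerivedCategory.homologyFunctor (ModuleCat.{u} A) i).map (DerivedCategory.Q.map (f • 𝟙 P)) =
      f • 𝟙 _ := by
  have e := NatIso.naturality_1 (DerivedCategory.homologyFunctorFactors (ModuleCat.{u} A) i) (f • 𝟙 P)
  simp only [Functor.comp_map] at e
  have h : HomologicalComplex.homologyMap (f • 𝟙 P) i = f • 𝟙 _ := by
    rw [HomologicalComplex.homologyMap, show (HomologicalComplex.shortComplexFunctor (ModuleCat.{u} A)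
      (ComplexShape.up ℤ) i).map (f • 𝟙 P) = f • 𝟙 (P.sc i) by ext <;> rfl]
    rw [ShortComplex.homologyMap_smul, ShortComplex.homologyMap_id]
    rfl
  have hq : (DerivedCategory.homologyFunctor (ModuleCat.{u} A) i).map (DerivedCategory.Q.map (f • 𝟙 P)) =
      (homologyFunctorFactors (ModuleCat.{u} A) i).hom.app P ≫
        (HomologicalComplex.homologyFunctor (ModuleCat.{u} A) (ComplexShape.up ℤ) i).map (f • 𝟙 P) ≫
          (homologyFunctorFactors (ModuleCat.{u} A) i).inv.app P := by
    simp only [← e, Category.assoc, Iso.hom_inv_id_app, Iso.hom_inv_id_app_assoc]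
    exact (Category.comp_id _).symm
  rw [hq, show (HomologicalComplex.homologyFunctor (ModuleCat.{u} A) (ComplexShape.up ℤ) i).map (f • 𝟙 P) =
    f • 𝟙 _ from h, Linear.smul_comp, Category.id_comp, Linear.comp_smul, Iso.hom_inv_id_app]
  rfl

lemma dcObj_cone {g : A} {P : DRing.Cx A} (hP : DCObj g (DRing.toD P)) (φ : P ⟶ P) :
    DCObj g (DRing.toD (CochainComplex.mappingCone φ)) := by
  rw [dcObj_iff_orth]
  intro X _ ξ
  have hT := DerivedCategory.mappingCone_triangle_distinguished φ
  have h0 : ξ ≫ (DerivedCategory.Q.mapTriangle.obj (CochainComplex.mappingCone.triangle φ)).mor₃ = 0 :=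
    (dcObj_iff_orth g _).1 (dcObj_shift hP 1) X _
  obtain ⟨y, hy⟩ := Triangle.coyoneda_exact₃ _ hT ξ h0
  rw [hy, show y = 0 from (dcObj_iff_orth g _).1 hP X y]
  exact zero_comp

/-- Derived Nakayama in degrees above `0`, for finitely many elements. -/
theorem exactAt_of_posVanishing (l : List A) {P : DRing.Cx A} (hP : DRing.TermwiseFlat P)
    (hdc : ∀ g ∈ l, DCObj g (DRing.toD P)) (h : PosVanishing P {g | g ∈ l} 0) (i : ℤ) (hi : 0 < i) :
    P.ExactAt i := by
  induction l generalizing P i with
  | nil => exact (h (ModuleCat.of A A) (by simp) i hi).of_iso (KF.tensorCxUnitIso P)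
  | cons f l ih =>
    have hins : PosVanishing P (insert f {g | g ∈ l}) 0 := fun N hN => h N fun g hg =>
      hN g (by simpa using hg)
    have hC : ∀ j : ℤ, 0 < j → (CochainComplex.mappingCone (f • 𝟙 P)).ExactAt j := fun j hj =>
      ih (termwiseFlat_cone hP _) (fun g hg => dcObj_cone (hdc g (List.mem_cons_of_mem f hg)) _)
        (posVanishing_cone hP hins) j hj
    rw [DR.exactAt_iff]
    have hdcH : DCMod f (Dual.HD A (DRing.toD P) i) := hdc f List.mem_cons_self i
    have hsurj : ∀ x : Dual.HD A (DRing.toD P) i, ∃ y, f • y = x := by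
      have hT := DerivedCategory.mappingCone_triangle_distinguished (f • 𝟙 P)
      have hE : Epi ((DerivedCategory.homologyFunctor (ModuleCat.{u} A) i).map
          (DerivedCategory.Q.mapTriangle.obj (CochainComplex.mappingCone.triangle (f • 𝟙 P))).mor₁) := by
        refine (DerivedCategory.HomologySequence.epi_homologyMap_mor₁_iff _ hT i).2 ?_
        refine IsZero.eq_of_tgt ?_ _ _
        exact (DR.subsingleton_iff_isZero _).1 ((DR.exactAt_iff _ i).1 (hC i hi))
      intro x
      obtain ⟨y, hy⟩ := (ModuleCat.epi_iff_surjective _).1 hE x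
      refine ⟨y, ?_⟩
      have e := congrArg (fun g => g.hom y) (homology_smul_id P f i)
      exact e.symm.trans hy
    choose y hy using hsurj
    refine subsingleton_of_forall_eq 0 fun x => ?_
    let seq : ℕ → Dual.HD A (DRing.toD P) i := fun n => Nat.rec x (fun _ z => y z) n
    exact hdcH.eq_zero seq (fun n => (hy (seq n)).symm) 0

/-- A complex whose tensor products with the modules killed by `l` are acyclic has no maps to objects derived
complete for the elements of `l`. -/
theorem hom_eq_zero_of_vanishing (l : List A) {C : DRing.Cx A} (hC : DRing.TermwiseFlat C)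
    (h : ∀ b : ℤ, PosVanishing C {g | g ∈ l} b) {E : Dual.D A} (hE : ∀ g ∈ l, DCObj g E)
    (ξ : DRing.toD C ⟶ E) : ξ = 0 := by
  induction l generalizing C E with
  | nil =>
    refine IsZero.eq_of_src (GrothLib.DerTrunc.isZero_of_forall _ fun i => ?_) _ _
    rw [← DR.subsingleton_iff_isZero, ← DR.exactAt_iff]
    exact (h (i - 1) (ModuleCat.of A A) (by simp) i (by omega)).of_iso (KF.tensorCxUnitIso C)
  | cons f l ih =>
    have hT := DerivedCategory.mappingCone_triangle_distinguished (f • 𝟙 C)
    have hcone : ∀ n : ℤ, Subsingleton (DRing.toD (CochainComplex.mappingCone (f • 𝟙 C)) ⟶ E⟦n⟧) := fun n => by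
      have h0 : ∀ a : DRing.toD (CochainComplex.mappingCone (f • 𝟙 C)) ⟶ E⟦n⟧, a = 0 := fun a =>
        ih (termwiseFlat_cone hC _) (fun b => posVanishing_cone hC fun N hN => h b N fun g hg =>
          hN g (by simpa using hg)) (fun g hg => dcObj_shift (hE g (List.mem_cons_of_mem f hg)) n) a
      exact ⟨fun a b => (h0 a).trans (h0 b).symm⟩
    have hb := (subsingleton_iff_precomp_bijective _ hT E).1 hcone 0
    let e := (CategoryTheory.shiftFunctorZero (Dual.D A) ℤ).app E
    have hdiv : ∀ a : DRing.toD C ⟶ E, ∃ a', f • a' = a := fun a => by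
      obtain ⟨a', ha''⟩ : ∃ a' : DRing.toD C ⟶ (CategoryTheory.shiftFunctor (Dual.D A) (0 : ℤ)).obj E,
          DerivedCategory.Q.map (f • 𝟙 C) ≫ a' = a ≫ e.inv := hb.2 (a ≫ e.inv)
      have hf1 : DerivedCategory.Q.map (f • 𝟙 C) ≫ a' = f • a' := by
        rw [Functor.map_smul, CategoryTheory.Functor.map_id, Linear.smul_comp, Category.id_comp]
      refine ⟨a' ≫ e.hom, ?_⟩
      rw [← Linear.smul_comp, ← hf1, ha'', Category.assoc, e.inv_hom_id]
      exact Category.comp_id _
    choose d hd using hdiv
    exact hom_eq_zero_of_seq (hE f List.mem_cons_self) (fun n => Nat.rec ξ (fun _ a => d a) n)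
      fun n => (hd _).symm

/-- Vanishing above `0` survives tensoring with a module. -/
theorem exactAt_tensor_of_exactAbove {B : Type u} [CommRing B] {C : DRing.Cx B} (hC : KF.IsKFlat C)
    (h : ∀ i : ℤ, 0 < i → C.ExactAt i) (M : ModuleCat.{u} B) (i : ℤ) (hi : 0 < i) :
    (DRing.tensorCx C M).ExactAt i := by
  obtain ⟨R, hR, hRp, ⟨e⟩⟩ := DR.exists_projective_rep (DRing.toD C) 0 fun j hj =>
    (DR.exactAt_iff C j).1 (h j hj)
  refine (DR.exactAt_tensor_congr (KF.isKFlat_of_vanishesAbove (fun j hj => hR j hj)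
    (DR.termwiseFlat_of_projective hRp)) hC e M i).1 ?_
  exact ShortComplex.exact_of_isZero_X₂ _ (((tensorRight M)).map_isZero (hR i hi))

/-- Derived Nakayama: positive cohomology is detected modulo the ideal. -/
theorem forall_exactAt_iff (I : Ideal A) (hI : I.FG) {P : DRing.Cx A} (hP : KF.IsKFlat P)
    (hPf : DRing.TermwiseFlat P) (hdc : DRing.IsDerivedComplete I (DRing.toD P)) :
    (∀ i : ℤ, 0 < i → P.ExactAt i) ↔
      ∀ i : ℤ, 0 < i → (DRing.tensorCx P (ModuleCat.of A (A ⧸ I))).ExactAt i := by
  refine ⟨fun h i hi => exactAt_tensor_of_exactAbove hP h _ i hi, fun h => ?_⟩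
  obtain ⟨s, hs⟩ := hI
  refine exactAt_of_posVanishing s.toList hPf (fun g hg n => (isDerivedComplete_iff I _).1 hdc g
    (hs ▸ Ideal.subset_span (Finset.mem_toList.1 hg)) n) fun N hN i hi => ?_
  let φ := Ideal.Quotient.mk I
  have hker : RingHom.ker φ • (⊤ : Submodule A N) = ⊥ := by
    refine le_bot_iff.1 (Submodule.smul_le.2 fun a ha x _ => ?_)
    rw [Ideal.mk_ker, ← hs] at ha
    have hle : Ideal.span (s : Set A) ≤ (⊤ : Submodule A N).annihilator := Ideal.span_le.2 fun g hg =>
      Submodule.mem_annihilator.2 fun x _ => hN g (Finset.mem_toList.2 hg) x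
    exact Submodule.mem_annihilator.1 (hle ha) x trivial
  obtain ⟨M, ⟨eM⟩⟩ := DR.exists_restrict_iso φ Ideal.Quotient.mk_surjective N hker
  let e1 : (ModuleCat.restrictScalars φ).obj (ModuleCat.of (A ⧸ I) (A ⧸ I)) ≅ ModuleCat.of A (A ⧸ I) :=
    LinearEquiv.toModuleIso
      ({ toFun := fun x => x, invFun := fun x => x, map_add' := fun _ _ => rfl
         map_smul' := fun a x => rfl
         left_inv := fun _ => rfl, right_inv := fun _ => rfl } :
        ((ModuleCat.restrictScalars φ).obj (ModuleCat.of (A ⧸ I) (A ⧸ I))) ≃ₗ[A] (A ⧸ I))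
  have tiso : ∀ {N N' : ModuleCat.{u} A} (e : N ≅ N'), (DRing.tensorCx P N).ExactAt i →
      (DRing.tensorCx P N').ExactAt i := fun e h => h.of_iso
    (HomologicalComplex.Hom.isoOfComponents (fun j => whiskerLeftIso (P.X j) e)
      fun j k _ => (whisker_exchange (P.d j k) e.hom).symm.symm)
  have hC : ∀ j : ℤ, 0 < j → ((DR.bc φ).obj P).ExactAt j := fun j hj => by
    have h1 : (DRing.tensorCx P ((ModuleCat.restrictScalars φ).obj (ModuleCat.of (A ⧸ I) (A ⧸ I)))).ExactAt j :=
      (h j hj).of_iso (HomologicalComplex.Hom.isoOfComponents (fun k => whiskerLeftIso (P.X k) e1.symm)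
        fun k l _ => (whisker_exchange (P.d k l) e1.inv).symm.symm)
    exact ((KF.exactAt_tensor_restrict_iff φ P _ j).1 h1).of_iso (KF.tensorCxUnitIso _)
  exact tiso eM ((KF.exactAt_tensor_restrict_iff φ P M i).2
    (exactAt_tensor_of_exactAbove (KF.isKFlat_bc φ hP) hC M i hi))

end GrothLib.DCpl
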