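import Groth.Agent.Lib.DCxRing.DComplete.TensorFree
import Groth.Agent.Lib.DCxRing.DComplete.Nakayama
import Groth.Agent.Lib.AdicExtra.TensorFlat
import Groth.Agent.S7048

/-!
# Derived completion of the tensor product of a finite module with a flat module
-/

set_option autoImplicit false
set_option maxHeartbeats 800000
universe u

open CategoryTheory CategoryTheory.Limits MonoidalCategory HomologicalComplex Pretriangulated

attribute [local instance] HasDerivedCategory.standard

namespace GrothLib.DCpl

variable {A : Type u} [CommRing A]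

/-- A map of complexes of flat modules which is invisible to modules killed by `I` is a reflection. -/
theorem bijective_of_vanishing (I : Ideal A) (hI : I.FG) {P T : DRing.Cx A} (φ : P ⟶ T)
    (hP : DRing.TermwiseFlat P) (hT : DRing.TermwiseFlat T)
    (h : ∀ (X : ModuleCat.{u} A), (∀ a ∈ I, ∀ x : X, a • x = 0) → ∀ j, IsIso (φ.f j ▷ X))
    {E : Dual.D A} (hE : DRing.IsDerivedComplete I E) :
    Function.Bijective (fun ψ : DRing.toD T ⟶ E => DerivedCategory.Q.map φ ≫ ψ) := by
  obtain ⟨s, hs⟩ := hI
  have hCf : DRing.TermwiseFlat (CochainComplex.mappingCone φ) := KF.flatTerms_mappingCone φ hP hT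
  have hvan : ∀ (X : ModuleCat.{u} A), (∀ a ∈ I, ∀ x : X, a • x = 0) →
      ∀ i, (DRing.tensorCx (CochainComplex.mappingCone φ) X).ExactAt i := fun X hX i => by
    let g := ((tensorRight X).mapHomologicalComplex (ComplexShape.up ℤ)).map φ
    haveI : ∀ j, IsIso (g.f j) := h X hX
    haveI : IsIso g := HomologicalComplex.Hom.isIso_of_components g
    refine HomologicalComplex.ExactAt.of_iso ?_
      (CochainComplex.mappingCone.mapHomologicalComplexIso φ (tensorRight X)).symm
    have hq : QuasiIso g := (quasiIso_iff g).2 fun k =>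
      (quasiIsoAt_iff_isIso_homologyMap g k).2
        (inferInstanceAs (IsIso ((HomologicalComplex.homologyFunctor (ModuleCat.{u} A) (ComplexShape.up ℤ) k).map g)))
    exact ((GrothLib.DerCat.quasiIso_iff_acyclic_mappingCone g).1 hq) i
  have hC : ∀ (n : ℤ), Subsingleton (DRing.toD (CochainComplex.mappingCone φ) ⟶ E⟦n⟧) := fun n => by
    have h0 : ∀ a : DRing.toD (CochainComplex.mappingCone φ) ⟶ E⟦n⟧, a = 0 := fun a =>
      hom_eq_zero_of_vanishing s.toList hCf (fun b N hN i _ => hvan N (fun c hc x => by
          have hle : Ideal.span (s : Set A) ≤ (⊤ : Submodule A N).annihilator := Ideal.span_le.2 fun g hg =>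
            Submodule.mem_annihilator.2 fun x _ => hN g (Finset.mem_toList.2 hg) x
          exact Submodule.mem_annihilator.1 (hle (hs.symm ▸ hc)) x trivial) i)
        (fun g hg => dcObj_shift ((isDerivedComplete_iff I E).1 hE g
          (hs ▸ Ideal.subset_span (Finset.mem_toList.1 hg))) n) a
    exact ⟨fun a b => (h0 a).trans (h0 b).symm⟩
  have hb := (subsingleton_iff_precomp_bijective _
    (DerivedCategory.mappingCone_triangle_distinguished φ) E).1 hC 0
  let e0 := (CategoryTheory.shiftFunctorZero (Dual.D A) ℤ).app E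
  refine ⟨fun a b hab => (cancel_mono e0.inv).1 (hb.1 ?_), fun b => ?_⟩
  · change DerivedCategory.Q.map φ ≫ a ≫ e0.inv = DerivedCategory.Q.map φ ≫ b ≫ e0.inv
    rw [← Category.assoc, ← Category.assoc]
    exact congrArg (· ≫ e0.inv) hab
  · obtain ⟨a, ha⟩ : ∃ a : DRing.toD T ⟶ (CategoryTheory.shiftFunctor (Dual.D A) (0 : ℤ)).obj E,
        DerivedCategory.Q.map φ ≫ a = b ≫ e0.inv := hb.2 _
    refine ⟨a ≫ e0.hom, ?_⟩
    change DerivedCategory.Q.map φ ≫ a ≫ e0.hom = b
    rw [reassoc_of% ha]
    simp

/-- A module in degree zero as a complex. -/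
noncomputable abbrev deg₀ : ModuleCat.{u} A ⥤ DRing.Cx A :=
  HomologicalComplex.single (ModuleCat.{u} A) (ComplexShape.up ℤ) 0

variable [IsNoetherianRing A] (I : Ideal A) (M N : Type u) [AddCommGroup M] [Module A M] [Module.Finite A M]
  [AddCommGroup N] [Module A N] [Module.Flat A N]

/-- The map to the completion, as a map in the derived category. -/
noncomputable def toHatD : Dual.inD A (TensorProduct A M N) ⟶ Dual.inD A (AdicCompletion I (TensorProduct A M N)) :=
  (DerivedCategory.singleFunctor (ModuleCat.{u} A) 0).map (ModuleCat.ofHom (AdicCompletion.of I (TensorProduct A M N)))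

/-- Derived completion of `M ⊗ N` is the adic completion. -/
theorem bijective_toHatD {E : Dual.D A} (hE : DRing.IsDerivedComplete I E) :
    Function.Bijective (fun ψ : Dual.inD A (AdicCompletion I (TensorProduct A M N)) ⟶ E =>
      toHatD I M N ≫ ψ) := by
  have hI : I.FG := I.fg_of_isNoetherianRing
  haveI hflat := AdicExtra.flat_adicCompletion_of_flat I N
  let f : ModuleCat.of A N ⟶ ModuleCat.of A (AdicCompletion I N) := ModuleCat.ofHom (AdicCompletion.of I N)
  let S₀ : ModuleCat.{u} A ⥤ DRing.Cx A := deg₀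
  have hPf : DRing.TermwiseFlat (S₀.obj (ModuleCat.of A N)) :=
    KF.flatTerms_single (ModuleCat.of A N) (inferInstanceAs (Module.Flat A N)) 0
  have hTf : DRing.TermwiseFlat (S₀.obj (ModuleCat.of A (AdicCompletion I N))) :=
    KF.flatTerms_single (ModuleCat.of A (AdicCompletion I N)) hflat 0
  have hPk : KF.IsKFlat (S₀.obj (ModuleCat.of A N)) :=
    KF.isKFlat_single (ModuleCat.of A N) (inferInstanceAs (Module.Flat A N)) 0
  have hTk : KF.IsKFlat (S₀.obj (ModuleCat.of A (AdicCompletion I N))) :=
    KF.isKFlat_single (ModuleCat.of A (AdicCompletion I N)) hflat 0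
  have href : ∀ E : Dual.D A, DRing.IsDerivedComplete I E →
      Function.Bijective (fun ψ : DRing.toD (S₀.obj (ModuleCat.of A (AdicCompletion I N))) ⟶ E =>
        DerivedCategory.Q.map (S₀.map f) ≫ ψ) := fun E hE =>
    bijective_of_vanishing I hI (S₀.map f) hPf hTf (fun X hX j => by
      by_cases hj : j = 0
      · subst hj
        haveI : IsIso (f ▷ X) := by
          rw [ConcreteCategory.isIso_iff_bijective]
          exact AdicExtra.rTensor_of_bijective (A := A) N hI hX
        change IsIso (((HomologicalComplex.single (ModuleCat.{u} A) (ComplexShape.up ℤ) 0).map f).f 0 ▷ X)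
        rw [HomologicalComplex.single_map_f_self, comp_whiskerRight, comp_whiskerRight]
        infer_instance
      · exact Limits.IsZero.isIso ((tensorRight X).map_isZero (isZero_single_obj_X _ _ _ _ hj))
          ((tensorRight X).map_isZero (isZero_single_obj_X _ _ _ _ hj)) _) hE
  obtain ⟨F, c, q, hc, hF, hq⟩ := exists_finiteFree_resolution (A := A) M
  haveI := hq
  have hFk : KF.IsKFlat F := KF.isKFlat_of_vanishesAbove hc
    (DR.termwiseFlat_of_projective fun i => DR.projective_of_finiteFree hF i)
  have hb := bijective_tensR I (S₀.map f) hFk href hE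
  obtain ⟨e₁⟩ := tensorRight_map_value q (S₀.map f) hPk hTk
  let R := tensorRight (ModuleCat.of A M)
  let nat := HomologicalComplex.singleMapHomologicalComplex R (ComplexShape.up ℤ) 0
  let e₂ : Arrow.mk ((R.mapHomologicalComplex (ComplexShape.up ℤ)).map (S₀.map f)) ≅ Arrow.mk (S₀.map (R.map f)) :=
    Arrow.isoMk (nat.app _) (nat.app _) (nat.hom.naturality f).symm
  let θ := LinearEquiv.ofBijective _ (AdicExtra.tensorToCompletion_bijective I N M)
  let e₃ : Arrow.mk (R.map f) ≅ Arrow.mk (ModuleCat.ofHom (AdicCompletion.of I (TensorProduct A M N))) :=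
    Arrow.isoMk (TensorProduct.comm A N M).toModuleIso
      ((TensorProduct.comm A (AdicCompletion I N) M).trans θ).toModuleIso (by
        refine ModuleCat.MonoidalCategory.tensor_ext fun n m => ?_
        exact (AdicCompletion.map_of I (TensorProduct.mk A M N m) n).symm)
  let η := DerivedCategory.singleFunctor (ModuleCat.{u} A) 0
  let nQ := (SingleFunctors.evaluation _ _ 0).mapIso
    (DerivedCategory.singleFunctorsPostcompQIso (ModuleCat.{u} A))
  let e₄ : Arrow.mk (DerivedCategory.Q.map (S₀.map (R.map f))) ≅ Arrow.mk (η.map (R.map f)) :=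
    Arrow.isoMk (nQ.app _).symm (nQ.app _).symm (nQ.inv.naturality (R.map f)).symm
  let e : Arrow.mk (DerivedCategory.Q.map (tensR (S₀.map f) F)) ≅ Arrow.mk (toHatD I M N) :=
    e₁ ≪≫ DerivedCategory.Q.mapArrow.mapIso e₂ ≪≫ e₄ ≪≫ η.mapArrow.mapIso e₃
  have h := ((Iso.homFromEquiv (Arrow.leftFunc.mapIso e)).bijective.comp hb).comp
    (Iso.homFromEquiv (Arrow.rightFunc.mapIso e).symm).bijective
  refine (congrArg Function.Bijective (funext fun ψ => ?_)).mpr h
  change toHatD I M N ≫ ψ = e.inv.left ≫ DerivedCategory.Q.map (tensR (S₀.map f) F) ≫ e.hom.right ≫ ψ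
  have hw : e.inv.left ≫ DerivedCategory.Q.map (tensR (S₀.map f) F) = toHatD I M N ≫ e.inv.right := Arrow.w e.inv
  have hr : e.inv.right ≫ e.hom.right = 𝟙 _ := by
    rw [← Arrow.comp_right, e.inv_hom_id]; rfl
  rw [reassoc_of% hw, reassoc_of% hr]

/-- The adic completion of `M ⊗ N` is derived complete. -/
theorem isDerivedComplete_hatD : DRing.IsDerivedComplete I (Dual.inD A (AdicCompletion I (TensorProduct A M N))) := by
  haveI := AdicCompletion.isAdicComplete (M := TensorProduct A M N) I.fg_of_isNoetherianRing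
  exact (isDerivedComplete_inD_iff I _).2 fun g hg => dcMod_of_isAdicComplete I _ hg

end GrothLib.DCpl
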