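import Groth.Agent.Lib.DCxRing.DComplete.Nakayama
import Groth.Agent.Lib.DCxRing.BC
import Groth.Agent.S7048
import Mathlib.RingTheory.AdicCompletion.AsTensorProduct
import Mathlib.RingTheory.AdicCompletion.Completeness
import Mathlib.RingTheory.AdicCompletion.LocalRing
import Mathlib.Algebra.Homology.ShortComplex.PreservesHomology

/-!
# Derived completion of complexes with finite cohomology over a Noetherian ring
-/

set_option autoImplicit false
set_option maxHeartbeats 800000
universe u

open CategoryTheory CategoryTheory.Limits MonoidalCategory Pretriangulated TensorProduct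

attribute [local instance] HasDerivedCategory.standard

namespace GrothLib.DCpl

variable {A : Type u} [CommRing A] (I : Ideal A)

/-- The completion of the ring as a module. -/
noncomputable abbrev hatMod : ModuleCat.{u} A := ModuleCat.of A (AdicCompletion I A)

/-- `A → Â` as a map of modules. -/
noncomputable def hatι : 𝟙_ (ModuleCat.{u} A) ⟶ hatMod I :=
  ModuleCat.ofHom (X := A) (Algebra.linearMap A (AdicCompletion I A))

/-- Tensoring with the completion of the ring. -/
noncomputable def hatNat : 𝟭 (ModuleCat.{u} A) ⟶ tensorRight (hatMod I) where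
  app M := (ρ_ M).inv ≫ M ◁ hatι I
  naturality M N g := by
    change g ≫ (ρ_ N).inv ≫ N ◁ hatι I = ((ρ_ M).inv ≫ M ◁ hatι I) ≫ g ▷ hatMod I
    rw [Category.assoc, rightUnitor_inv_naturality_assoc, ← whisker_exchange]

/-- The map from `P` to `P ⊗ Â`. -/
noncomputable def toHatCx (P : DRing.Cx A) : P ⟶ DRing.tensorCx P (hatMod I) where
  f j := (hatNat I).app (P.X j)
  comm' j k _ := ((hatNat I).naturality (P.d j k)).symm

/-- For a module killed by `I`, tensoring with the completion changes nothing. -/
lemma isIso_hat_whisker (hI : I.FG) (N : ModuleCat.{u} A) (hN : ∀ a ∈ I, ∀ x : N, a • x = 0) :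
    IsIso ((λ_ N).inv ≫ hatι I ▷ N) := by
  rw [ConcreteCategory.isIso_iff_bijective]
  let θ : A ⧸ I →ₗ[A] Module.End A N := Submodule.liftQ I (LinearMap.lsmul A N) fun a ha =>
    LinearMap.ext fun x => hN a ha x
  let μ : AdicCompletion I A →ₗ[A] Module.End A N := θ ∘ₗ (AdicCompletion.evalOneₐ I).toLinearMap
  let inv : AdicCompletion I A ⊗[A] N →ₗ[A] N := TensorProduct.lift μ
  have happ : ∀ x : N, ((λ_ N).inv ≫ hatι I ▷ N).hom x = (1 : AdicCompletion I A) ⊗ₜ[A] x := fun x => by
    change (algebraMap A (AdicCompletion I A)) 1 ⊗ₜ[A] x = _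
    rw [map_one]
  have hleft : ∀ x : N, inv (((λ_ N).inv ≫ hatι I ▷ N).hom x) = x := fun x => by
    rw [happ, TensorProduct.lift.tmul]
    change θ (AdicCompletion.evalOneₐ I 1) x = x
    rw [map_one]
    exact one_smul A x
  refine ⟨Function.LeftInverse.injective (g := inv) hleft, fun t => ?_⟩
  induction t using TensorProduct.induction_on with
  | zero => exact ⟨0, map_zero _⟩
  | add a b ha hb =>
    obtain ⟨x, hx⟩ := ha
    obtain ⟨y, hy⟩ := hb
    exact ⟨x + y, by rw [map_add, hx, hy]⟩
  | tmul b x =>
    obtain ⟨a, ha⟩ := Ideal.Quotient.mk_surjective (AdicCompletion.evalOneₐ I b)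
    refine ⟨a • x, ?_⟩
    have hw : b - algebraMap A (AdicCompletion I A) a ∈ I.map (algebraMap A (AdicCompletion I A)) := by
      rw [← AdicCompletion.ker_evalOneₐ_eq_map I hI, RingHom.mem_ker, map_sub]
      change AdicCompletion.evalOneₐ I b - AdicCompletion.evalOneₐ I (algebraMap A _ a) = 0
      rw [AlgHom.commutes, Ideal.Quotient.algebraMap_eq, ha, sub_self]
    have h0 : (b - algebraMap A (AdicCompletion I A) a) ⊗ₜ[A] x = 0 := by
      have hw' : b - algebraMap A (AdicCompletion I A) a ∈ (I • ⊤ : Submodule A (AdicCompletion I A)) := by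
        rw [Ideal.smul_top_eq_map, Submodule.restrictScalars_mem]
        exact hw
      refine Submodule.smul_induction_on hw' (fun c hc z _ => ?_) (fun u v hu hv => ?_)
      · rw [TensorProduct.smul_tmul, hN c hc x, TensorProduct.tmul_zero]
      · rw [TensorProduct.add_tmul, hu, hv, add_zero]
    rw [sub_tmul, sub_eq_zero] at h0
    refine (happ (a • x)).trans ?_
    rw [← TensorProduct.smul_tmul, ← Algebra.algebraMap_eq_smul_one]
    exact h0.symm

/-- The cofibre of `P → P ⊗ Â` is invisible to modules killed by `I`. -/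
lemma vanishing_toHatCx (hI : I.FG) (P : DRing.Cx A) (N : ModuleCat.{u} A) (hN : ∀ a ∈ I, ∀ x : N, a • x = 0)
    (i : ℤ) : (DRing.tensorCx (CochainComplex.mappingCone (toHatCx I P)) N).ExactAt i := by
  haveI := isIso_hat_whisker I hI N hN
  have hiso : ∀ j, IsIso (((hatNat I).app (P.X j)) ▷ N) := fun j => by
    have : ((hatNat I).app (P.X j)) ▷ N =
        P.X j ◁ ((λ_ N).inv ≫ hatι I ▷ N) ≫ (α_ (P.X j) (hatMod I) N).inv := by
      simp [hatNat, MonoidalCategory.comp_whiskerRight]
    rw [this]
    infer_instance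
  let g := ((tensorRight N).mapHomologicalComplex (ComplexShape.up ℤ)).map (toHatCx I P)
  haveI : ∀ j, IsIso (g.f j) := hiso
  haveI : IsIso g := HomologicalComplex.Hom.isIso_of_components g
  refine HomologicalComplex.ExactAt.of_iso ?_
    (CochainComplex.mappingCone.mapHomologicalComplexIso (toHatCx I P) (tensorRight N)).symm
  have hq : QuasiIso g := (quasiIso_iff g).2 fun k =>
    (quasiIsoAt_iff_isIso_homologyMap g k).2
      (inferInstanceAs (IsIso ((HomologicalComplex.homologyFunctor (ModuleCat.{u} A) (ComplexShape.up ℤ) k).map g)))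
  exact ((GrothLib.DerCat.quasiIso_iff_acyclic_mappingCone g).1 hq) i

variable [IsNoetherianRing A]

lemma flat_hat : Module.Flat A (AdicCompletion I A) := AdicCompletion.flat_of_isNoetherian I

/-- Derived completion over a Noetherian ring, on finite cohomology. -/
theorem exists_hat_completion (K : Dual.D A) (hK : ∀ n : ℤ, Module.Finite A (Dual.HD A K n)) :
    ∃ (L : Dual.D A) (η : K ⟶ L), DRing.IsDerivedComplete I L ∧
      (∀ E : Dual.D A, DRing.IsDerivedComplete I E → Function.Bijective (fun ψ : L ⟶ E => η ≫ ψ)) ∧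
      ∀ n : ℤ, ∃ e : Dual.HD A L n ≃ₗ[A] AdicCompletion I (Dual.HD A K n),
        ∀ x : Dual.HD A K n, e (((DerivedCategory.homologyFunctor (ModuleCat.{u} A) n).map η).hom x) =
          AdicCompletion.of I (Dual.HD A K n) x := by
  have hI : I.FG := I.fg_of_isNoetherianRing
  obtain ⟨P, -, hPf, ⟨eP⟩⟩ := KF.exists_kflat_rep K
  haveI := flat_hat I
  haveI : PreservesFiniteLimits (tensorRight (hatMod I)) := by
    haveI : (tensorRight (hatMod I)).PreservesHomology := Functor.preservesHomology_of_map_exact _ fun S hS => by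
      rw [ShortComplex.ShortExact.moduleCat_exact_iff_function_exact] at hS ⊢
      exact Module.Flat.rTensor_exact (R := A) (AdicCompletion I A) hS
    exact Functor.preservesFiniteLimits_of_preservesHomology _
  haveI : PreservesFiniteColimits (tensorRight (hatMod I)) := by
    haveI : (tensorRight (hatMod I)).PreservesHomology := Functor.preservesHomology_of_map_exact _ fun S hS => by
      rw [ShortComplex.ShortExact.moduleCat_exact_iff_function_exact] at hS ⊢
      exact Module.Flat.rTensor_exact (R := A) (AdicCompletion I A) hS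
    exact Functor.preservesFiniteColimits_of_preservesHomology _
  let T := DRing.tensorCx P (hatMod I)
  let η : K ⟶ DRing.toD T := eP.inv ≫ DerivedCategory.Q.map (toHatCx I P)
  -- the comparison on cohomology
  have he : ∀ n : ℤ, ∃ e : Dual.HD A (DRing.toD T) n ≃ₗ[A] AdicCompletion I (Dual.HD A K n),
      ∀ x : Dual.HD A K n, e (((DerivedCategory.homologyFunctor (ModuleCat.{u} A) n).map η).hom x) =
        AdicCompletion.of I (Dual.HD A K n) x := by
    intro n
    let H := DerivedCategory.homologyFunctor (ModuleCat.{u} A) n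
    let φ : H.obj K ≅ (P.sc n).homology := H.mapIso eP.symm ≪≫ DR.homologyIso P n
    haveI : Module.Finite A (H.obj K) := hK n
    let ι₀ := (P.sc n).mapHomologyIso (𝟭 (ModuleCat.{u} A))
    let ι₁ := (P.sc n).mapHomologyIso (tensorRight (hatMod I))
    have key : HomologicalComplex.homologyMap (toHatCx I P) n =
        ι₀.hom ≫ (hatNat I).app (P.sc n).homology ≫ ι₁.inv :=
      (P.sc n).homologyMap_mapNatTrans (hatNat I)
    let ι₀' : (P.sc n).homology ≅ (P.sc n).homology := ι₀
    let ι₁' : T.homology n ≅ (tensorRight (hatMod I)).obj (P.sc n).homology := ι₁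
    have key' : (HomologicalComplex.homologyMap (toHatCx I P) n : P.homology n ⟶ T.homology n) =
        ι₀'.hom ≫ (hatNat I).app (P.sc n).homology ≫ ι₁'.inv := key
    let eT : H.obj (DRing.toD T) ≅ (tensorRight (hatMod I)).obj (H.obj K) :=
      DR.homologyIso T n ≪≫ ι₁' ≪≫ (tensorRight (hatMod I)).mapIso (ι₀'.symm ≪≫ φ.symm)
    have hnat := (DerivedCategory.homologyFunctorFactors (ModuleCat.{u} A) n).hom.naturality (toHatCx I P)
    simp only [Functor.comp_map] at hnat
    have hcomp : H.map η ≫ eT.hom = (hatNat I).app (H.obj K) := by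
      have h1 : H.map η ≫ (DR.homologyIso T n).hom = φ.hom ≫ HomologicalComplex.homologyMap (toHatCx I P) n := by
        simp only [η, φ, Functor.map_comp, Iso.trans_hom, Functor.mapIso_hom, Iso.symm_hom, Category.assoc]
        exact congrArg (H.map eP.inv ≫ ·) hnat
      have h3 := (hatNat I).naturality (ι₀'.inv ≫ φ.inv)
      simp only [Functor.id_map] at h3
      simp only [eT, Iso.trans_hom, Functor.mapIso_hom, Iso.symm_hom]
      rw [reassoc_of% h1, key']
      simp only [Category.assoc]
      erw [ι₁'.inv_hom_id_assoc, ← h3]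
      simp
    refine ⟨eT.toLinearEquiv.trans ((TensorProduct.comm A _ _).trans
      ((AdicCompletion.ofTensorProductEquivOfFiniteNoetherian I (H.obj K)).restrictScalars A)), fun x => ?_⟩
    have hx := congrArg (fun g => g.hom x) hcomp
    change (AdicCompletion.ofTensorProductEquivOfFiniteNoetherian I (H.obj K))
      (TensorProduct.comm A _ _ (eT.hom.hom ((H.map η).hom x))) = _
    rw [show eT.hom.hom ((H.map η).hom x) = x ⊗ₜ[A] (1 : AdicCompletion I A) from hx.trans (by
      change x ⊗ₜ[A] (algebraMap A (AdicCompletion I A) 1) = _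
      rw [map_one])]
    rw [AdicCompletion.ofTensorProductEquivOfFiniteNoetherian_apply]
    exact (AdicCompletion.ofTensorProduct_tmul I (H.obj K) 1 x).trans (one_smul _ _)
  have hT : DRing.IsDerivedComplete I (DRing.toD T) := by
    rw [isDerivedComplete_iff]
    intro f hf n
    obtain ⟨e, -⟩ := he n
    haveI := AdicCompletion.isAdicComplete (M := Dual.HD A K n) hI
    exact dcMod_of_equiv e.symm (dcMod_of_isAdicComplete I (AdicCompletion I (Dual.HD A K n)) hf)
  refine ⟨DRing.toD T, η, hT, fun E hE => ?_, he⟩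
  obtain ⟨s, hs⟩ := hI
  have hCf : DRing.TermwiseFlat (CochainComplex.mappingCone (toHatCx I P)) := by
    refine KF.flatTerms_mappingCone _ hPf fun j => ?_
    haveI := hPf j
    exact (inferInstance : Module.Flat A (P.X j ⊗[A] AdicCompletion I A))
  have hC : ∀ (n : ℤ), Subsingleton (DRing.toD (CochainComplex.mappingCone (toHatCx I P)) ⟶ E⟦n⟧) := fun n => by
    have h0 : ∀ a : DRing.toD (CochainComplex.mappingCone (toHatCx I P)) ⟶ E⟦n⟧, a = 0 := fun a =>
      hom_eq_zero_of_vanishing s.toList hCf (fun b N hN i _ =>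
        vanishing_toHatCx I ⟨s, hs⟩ P N (fun c hc x => by
          have hle : Ideal.span (s : Set A) ≤ (⊤ : Submodule A N).annihilator := Ideal.span_le.2 fun g hg =>
            Submodule.mem_annihilator.2 fun x _ => hN g (Finset.mem_toList.2 hg) x
          exact Submodule.mem_annihilator.1 (hle (hs.symm ▸ hc)) x trivial) i)
        (fun g hg => dcObj_shift ((isDerivedComplete_iff I E).1 hE g
          (hs ▸ Ideal.subset_span (Finset.mem_toList.1 hg))) n) a
    exact ⟨fun a b => (h0 a).trans (h0 b).symm⟩
  have hb := (subsingleton_iff_precomp_bijective _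
    (DerivedCategory.mappingCone_triangle_distinguished (toHatCx I P)) E).1 hC 0
  let e0 := (CategoryTheory.shiftFunctorZero (Dual.D A) ℤ).app E
  refine ⟨fun a b hab => ?_, fun b => ?_⟩
  · have hab' : DerivedCategory.Q.map (toHatCx I P) ≫ a = DerivedCategory.Q.map (toHatCx I P) ≫ b := by
      have := congrArg (eP.hom ≫ ·) hab
      simpa [η] using this
    refine (cancel_mono e0.inv).1 (hb.1 ?_)
    change DerivedCategory.Q.map (toHatCx I P) ≫ a ≫ e0.inv = DerivedCategory.Q.map (toHatCx I P) ≫ b ≫ e0.inv
    rw [← Category.assoc, ← Category.assoc]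
    exact congrArg (· ≫ e0.inv) hab'
  · obtain ⟨a, ha⟩ : ∃ a : DRing.toD T ⟶ (CategoryTheory.shiftFunctor (Dual.D A) (0 : ℤ)).obj E,
        DerivedCategory.Q.map (toHatCx I P) ≫ a = (eP.hom ≫ b) ≫ e0.inv := hb.2 _
    refine ⟨a ≫ e0.hom, ?_⟩
    change (eP.inv ≫ DerivedCategory.Q.map (toHatCx I P)) ≫ a ≫ e0.hom = b
    rw [Category.assoc, reassoc_of% ha]
    simp

end GrothLib.DCpl
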