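import Groth.Agent.Lib.DCxRing.DComplete.Basic
import Groth.Agent.Lib.DCxRing.InjAmp
import Groth.Agent.Lib.DCxRing.TwoTerm
import Groth.Agent.Lib.KInj.Resolution
import Mathlib.Algebra.Category.ModuleCat.AB

/-!
# Derived complete objects are orthogonal to objects on which the element is invertible
-/

set_option autoImplicit false
set_option maxHeartbeats 800000
universe u

open CategoryTheory CategoryTheory.Limits HomologicalComplex CochainComplex Pretriangulated

attribute [local instance] HasDerivedCategory.standard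

namespace GrothLib.DCpl

variable {A : Type u} [CommRing A]

/-- The complex of sequences. -/
noncomputable def seqCx (C : DRing.Cx A) : DRing.Cx A where
  X i := ModuleCat.of A (ℕ → C.X i)
  d i j := ModuleCat.ofHom (LinearMap.pi fun n => (C.d i j).hom.comp (LinearMap.proj n))
  shape i j h := by
    refine ModuleCat.hom_ext (LinearMap.ext fun x => funext fun n => ?_)
    simp [C.shape i j h]
    rfl
  d_comp_d' i j k _ _ := by
    refine ModuleCat.hom_ext (LinearMap.ext fun x => funext fun n => ?_)
    exact LinearMap.congr_fun (congrArg ModuleCat.Hom.hom (C.d_comp_d i j k)) (x n)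

/-- A component of a sequence. -/
noncomputable def seqProj (C : DRing.Cx A) (n : ℕ) : seqCx C ⟶ C where
  f i := ModuleCat.ofHom (LinearMap.proj n)
  comm' _ _ _ := rfl

/-- A family of maps as a map into the complex of sequences. -/
noncomputable def seqLift {P C : DRing.Cx A} (x : ℕ → (P ⟶ C)) : P ⟶ seqCx C where
  f i := ModuleCat.ofHom (LinearMap.pi fun n => ((x n).f i).hom)
  comm' i j _ := by
    refine ModuleCat.hom_ext (LinearMap.ext fun p => funext fun n => ?_)
    exact LinearMap.congr_fun (congrArg ModuleCat.Hom.hom ((x n).comm i j)) p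

/-- The telescope on sequences. -/
noncomputable def seqTel (f : A) (C : DRing.Cx A) : seqCx C ⟶ seqCx C where
  f i := ModuleCat.ofHom (telMap f (C.X i))
  comm' i j _ := by
    refine ModuleCat.hom_ext (LinearMap.ext fun x => funext fun n => ?_)
    change (C.d i j).hom (x n - f • x (n + 1)) = (C.d i j).hom (x n) - f • (C.d i j).hom (x (n + 1))
    rw [map_sub, map_smul]

/-- Homotopic components give homotopic maps into the complex of sequences. -/
theorem nonempty_homotopy_seq {P C : DRing.Cx A} (F G : P ⟶ seqCx C)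
    (h : ∀ n, Nonempty (Homotopy (F ≫ seqProj C n) (G ≫ seqProj C n))) : Nonempty (Homotopy F G) := by
  let H := fun n => (h n).some
  let hom : ∀ i j : ℤ, P.X i ⟶ (seqCx C).X j := fun i j =>
    ModuleCat.ofHom (LinearMap.pi fun n => ((H n).hom i j).hom)
  refine ⟨{ hom := hom, zero := fun i j hij => ?_, comm := fun i => ?_ }⟩
  · refine ModuleCat.hom_ext (LinearMap.ext fun p => funext fun n => ?_)
    change ((H n).hom i j).hom p = 0
    rw [(H n).zero i j hij]
    rfl
  · rw [dNext_eq hom (show (ComplexShape.up ℤ).Rel i (i + 1) from rfl),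
      prevD_eq hom (show (ComplexShape.up ℤ).Rel (i - 1) i by simp)]
    refine ModuleCat.hom_ext (LinearMap.ext fun p => funext fun n => ?_)
    have hc := (H n).comm i
    rw [dNext_eq (H n).hom (show (ComplexShape.up ℤ).Rel i (i + 1) from rfl),
      prevD_eq (H n).hom (show (ComplexShape.up ℤ).Rel (i - 1) i by simp)] at hc
    exact LinearMap.congr_fun (congrArg ModuleCat.Hom.hom hc) p

/-- The telescope is a quasi-isomorphism for derived complete cohomology. -/
theorem quasiIso_seqTel {f : A} {C : DRing.Cx A} (h : ∀ i, DCMod f (C.homology i)) :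
    QuasiIso (seqTel f C) := by
  refine DR.quasiIso_of_cone _ fun i => DR.exactAt_cone_of_elements _ i fun a l ha hl => ?_
  -- classes of cycles
  have hH : ∀ i : ℤ, DCMod f (↥(LinearMap.ker (C.sc' (i - 1) i (i + 1)).g.hom) ⧸
      LinearMap.range (C.sc' (i - 1) i (i + 1)).moduleCatToCycles) := fun i =>
    dcMod_of_equiv (ShortComplex.homologyMapIso (C.isoSc' (i - 1) i (i + 1) (by simp) (by simp)) ≪≫
      (C.sc' (i - 1) i (i + 1)).moduleCatHomologyIso).toLinearEquiv (h i)
  have ha' : ∀ n, (C.d (i + 1) (i + 2)).hom (a n) = 0 := fun n => congrFun ha n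
  have hl' : ∀ n, a n - f • a (n + 1) + (C.d i (i + 1)).hom (l n) = 0 := fun n => congrFun hl n
  -- the classes of the components of `a` vanish
  have hex : ∀ n, ∃ b : C.X i, (C.d i (i + 1)).hom b = a n := by
    let S := C.sc' (i + 1 - 1) (i + 1) (i + 1 + 1)
    let q := (LinearMap.range S.moduleCatToCycles).mkQ
    let z : ℕ → ↥(LinearMap.ker S.g.hom) := fun n => ⟨a n, by
      change (C.d (i + 1) (i + 1 + 1)).hom (a n) = 0
      rw [show i + 1 + 1 = i + 2 by omega]
      exact ha' n⟩
    have h0 : (fun n => q (z n)) = 0 := by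
      apply (hH (i + 1)).1
      rw [telMap_map, map_zero]
      funext n
      refine (Submodule.Quotient.mk_eq_zero _).2 ?_
      have hmem : ∀ y : C.X i, ∃ w : S.X₁, S.f.hom w = (C.d i (i + 1)).hom y := by
        change ∀ y : C.X i, ∃ w : C.X (i + 1 - 1), (C.d (i + 1 - 1) (i + 1)).hom w = _
        rw [show i + 1 - 1 = i by omega]
        exact fun y => ⟨y, rfl⟩
      obtain ⟨w, hw⟩ := hmem (-l n)
      refine ⟨w, Subtype.ext ?_⟩
      change S.f.hom w = a n - f • a (n + 1)
      rw [hw, map_neg]
      exact neg_eq_of_add_eq_zero_left (hl' n)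
    intro n
    obtain ⟨w, hw⟩ := (Submodule.Quotient.mk_eq_zero _).1 (congrFun h0 n)
    have hw' : S.f.hom w = a n := congrArg Subtype.val hw
    have hmem : ∀ w : C.X (i + 1 - 1), ∃ b : C.X i, (C.d i (i + 1)).hom b = (C.d (i + 1 - 1) (i + 1)).hom w := by
      rw [show i + 1 - 1 = i by omega]
      exact fun w => ⟨w, rfl⟩
    obtain ⟨b, hb⟩ := hmem w
    exact ⟨b, hb.trans hw'⟩
  choose b hb using hex
  -- what is left is a sequence of cycles
  let S := C.sc' (i - 1) i (i + 1)
  let q := (LinearMap.range S.moduleCatToCycles).mkQ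
  let y : ℕ → ↥(LinearMap.ker S.g.hom) := fun n => ⟨l n + (b n - f • b (n + 1)), by
    change (C.d i (i + 1)).hom (l n + (b n - f • b (n + 1))) = 0
    rw [map_add, map_sub, map_smul, hb, hb]
    exact (add_comm _ _).trans (hl' n)⟩
  obtain ⟨x, hx⟩ := (hH i).2 fun n => q (y n)
  choose z hz using fun n => Submodule.mkQ_surjective (LinearMap.range S.moduleCatToCycles) (x n)
  have hmemr : ∀ n, y n - telMap f _ z n ∈ LinearMap.range S.moduleCatToCycles := fun n => by
    rw [← Submodule.Quotient.mk_eq_zero, Submodule.Quotient.mk_sub, sub_eq_zero]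
    have := congrFun hx n
    rw [← funext hz, telMap_map] at this
    exact this.symm
  choose w hw using hmemr
  let zv : ℕ → C.X i := fun n => (z n).1
  refine ⟨fun n => -b n + (zv n), w, ?_, ?_⟩
  · funext n
    change a n = -(C.d i (i + 1)).hom (-b n + (zv n))
    rw [map_add, map_neg, show (C.d i (i + 1)).hom (zv n) = 0 from (z n).2, hb, add_zero, neg_neg]
  · funext n
    have hw' : (C.d (i - 1) i).hom (w n) =
        l n + (b n - f • b (n + 1)) - ((zv n) - f • (zv (n + 1))) :=
      congrArg Subtype.val (hw n)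
    change l n = (-b n + (zv n)) - f • (-b (n + 1) + (zv (n + 1))) + (C.d (i - 1) i).hom (w n)
    rw [hw', smul_add, smul_neg]
    abel

/-- A sequence of maps `ξ_j = f ξ_{j+1}` into an object derived complete for `f` vanishes. -/
theorem hom_eq_zero_of_seq {f : A} {E L : Dual.D A}
    (hL : ∀ n : ℤ, DCMod f (Dual.HD A L n)) (ξs : ℕ → (E ⟶ L)) (hξs : ∀ n, ξs n = f • ξs (n + 1)) :
    ξs 0 = 0 := by
  obtain ⟨P, ⟨eP⟩⟩ : ∃ P : DRing.Cx A, Nonempty (DRing.toD P ≅ E) :=
    ⟨_, ⟨DerivedCategory.Q.objObjPreimageIso E⟩⟩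
  obtain ⟨L₀, ⟨eL⟩⟩ : ∃ L₀ : DRing.Cx A, Nonempty (DRing.toD L₀ ≅ L) :=
    ⟨_, ⟨DerivedCategory.Q.objObjPreimageIso L⟩⟩
  obtain ⟨C, i, hi, hC, -⟩ := KInj.exists_kInjective_resolution (ModuleCat.{u} A) L₀
  let e : DRing.toD C ≅ L := (asIso (DerivedCategory.Q.map i)).symm ≪≫ eL
  have hdc : ∀ n, DCMod f (C.homology n) := fun n => dcMod_of_equiv
    ((DerivedCategory.homologyFunctor (ModuleCat.{u} A) n).mapIso e.symm ≪≫ DR.homologyIso C n).toLinearEquiv
    (hL n)
  haveI := quasiIso_seqTel hdc
  choose x hx using fun n => DR.exists_lift_inj (eP.hom ≫ ξs n ≫ e.inv)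
  have hzero : DerivedCategory.Q.map (seqLift x ≫ seqTel f C) = 0 := by
    obtain ⟨H⟩ := nonempty_homotopy_seq (seqLift x ≫ seqTel f C) 0 fun n => by
      have hn : (seqLift x ≫ seqTel f C) ≫ seqProj C n = x n - f • x (n + 1) := by
        ext i p
        rfl
      rw [hn, zero_comp]
      refine ⟨HomotopyCategory.homotopyOfEq _ _
        ((CochainComplex.IsKInjective.Qh_map_bijective _ C).1 ?_)⟩
      have h1 : DerivedCategory.Q.map (x n - f • x (n + 1)) = DerivedCategory.Q.map (0 : P ⟶ C) := by
        rw [Functor.map_sub, Functor.map_smul, Functor.map_zero, hx, hx, ← Linear.comp_smul, ← Linear.smul_comp,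
          ← hξs, sub_self]
      let eA := DerivedCategory.quotientCompQhIso (ModuleCat.{u} A)
      have key : ∀ u : P ⟶ C, DerivedCategory.Qh.map ((HomotopyCategory.quotient _ _).map u) =
          eA.hom.app P ≫ DerivedCategory.Q.map u ≫ eA.inv.app C := fun u => by
        have h := eA.hom.naturality u
        simp only [Functor.comp_map] at h
        rw [← Category.assoc, ← h, Category.assoc, Iso.hom_inv_id_app]
        exact (Category.comp_id _).symm
      simp only [key, h1]
    rw [DerivedCategory.Q_map_eq_of_homotopy _ H, Functor.map_zero]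
  rw [Functor.map_comp] at hzero
  have hlift : DerivedCategory.Q.map (seqLift x) = 0 :=
    (cancel_mono (DerivedCategory.Q.map (seqTel f C))).1 (hzero.trans zero_comp.symm)
  have h0 : DerivedCategory.Q.map (x 0) = 0 := by
    rw [show x 0 = seqLift x ≫ seqProj C 0 from rfl, Functor.map_comp, hlift, zero_comp]
  rw [hx 0] at h0
  exact (cancel_mono e.inv).1 (((cancel_epi eP.hom).1 (h0.trans comp_zero.symm)).trans zero_comp.symm)

/-- No maps from objects on which `f` is invertible to objects derived complete for `f`. -/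
theorem hom_eq_zero_of_isIso_smul {f : A} {E L : Dual.D A} [hE : IsIso (f • 𝟙 E)]
    (hL : ∀ n : ℤ, DCMod f (Dual.HD A L n)) (ξ : E ⟶ L) : ξ = 0 := by
  let ψ : E ⟶ E := inv (f • 𝟙 E)
  refine hom_eq_zero_of_seq hL (fun n => Nat.rec ξ (fun _ η => ψ ≫ η) n) fun n => ?_
  change (Nat.rec ξ (fun _ η => ψ ≫ η) n : E ⟶ L) = f • (ψ ≫ (Nat.rec ξ (fun _ η => ψ ≫ η) n : E ⟶ L))
  rw [← Linear.smul_comp]
  have : f • ψ = 𝟙 E := by
    have h := IsIso.inv_hom_id (f • 𝟙 E)
    rwa [Linear.comp_smul, Category.comp_id] at h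
  rw [this, Category.id_comp]

end GrothLib.DCpl
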