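import Groth.Agent.Lib.DCxRing.DComplete.Orthogonal
import Mathlib.Algebra.Homology.DerivedCategory.Linear

/-!
# Derived completion with respect to one element
-/

set_option autoImplicit false
set_option maxHeartbeats 800000
universe u

open CategoryTheory CategoryTheory.Limits HomologicalComplex CochainComplex Pretriangulated
open CochainComplex.HomComplex

attribute [local instance] HasDerivedCategory.standard

namespace GrothLib.DCpl

variable {A : Type u} [CommRing A]

/-- Objects derived complete for `f`. -/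
def DCObj (f : A) (L : Dual.D A) : Prop := ∀ n : ℤ, DCMod f (Dual.HD A L n)

lemma dcObj_of_iso {f : A} {L L' : Dual.D A} (e : L ≅ L') (h : DCObj f L) : DCObj f L' :=
  fun n => dcMod_of_equiv ((DerivedCategory.homologyFunctor (ModuleCat.{u} A) n).mapIso e).toLinearEquiv (h n)

lemma dcObj_shift {f : A} {L : Dual.D A} (h : DCObj f L) (k : ℤ) : DCObj f (L⟦k⟧) := fun n =>
  dcMod_of_equiv
    (((DerivedCategory.homologyFunctor (ModuleCat.{u} A) 0).shiftIso k n (k + n) rfl).app L).toLinearEquiv.symm
    (h (k + n))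

lemma isIso_smul_of_iso {f : A} {X Y : Dual.D A} (e : X ≅ Y) [IsIso (f • 𝟙 X)] : IsIso (f • 𝟙 Y) := by
  have : f • 𝟙 Y = e.inv ≫ (f • 𝟙 X) ≫ e.hom := by
    rw [Linear.smul_comp, Category.id_comp, Linear.comp_smul, e.inv_hom_id]
  rw [this]
  infer_instance

instance isIso_smul_shift {f : A} {X : Dual.D A} [IsIso (f • 𝟙 X)] (k : ℤ) : IsIso (f • 𝟙 (X⟦k⟧)) := by
  have : f • 𝟙 (X⟦k⟧) = (f • 𝟙 X)⟦k⟧' := by
    rw [Functor.map_smul, CategoryTheory.Functor.map_id]
  rw [this]
  infer_instance

lemma isIso_smul_away (f : A) : IsIso (f • 𝟙 (Dual.inD A (Localization.Away f))) := by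
  have : f • 𝟙 (Dual.inD A (Localization.Away f)) = (DerivedCategory.singleFunctor (ModuleCat.{u} A) 0).map
      (f • 𝟙 (ModuleCat.of A (Localization.Away f))) := by
    rw [Functor.map_smul, CategoryTheory.Functor.map_id]
  rw [this]
  haveI : IsIso (f • 𝟙 (ModuleCat.of A (Localization.Away f))) := by
    rw [ConcreteCategory.isIso_iff_bijective]
    have hu : IsUnit (algebraMap A (Localization.Away f) f) := IsLocalization.Away.algebraMap_isUnit f
    refine (Function.bijective_iff_has_inverse).2 ⟨fun x => (↑hu.unit⁻¹ : Localization.Away f) * x,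
      fun x => ?_, fun x => ?_⟩
    · change (↑hu.unit⁻¹ : Localization.Away f) * (f • x) = x
      rw [Algebra.smul_def, ← mul_assoc, IsUnit.val_inv_mul, one_mul]
    · change f • ((↑hu.unit⁻¹ : Localization.Away f) * x) = x
      rw [Algebra.smul_def, ← mul_assoc, IsUnit.mul_val_inv, one_mul]
  infer_instance

/-- Derived completeness is orthogonality to the objects on which `f` is invertible. -/
theorem dcObj_iff_orth (f : A) (L : Dual.D A) :
    DCObj f L ↔ ∀ (X : Dual.D A) [IsIso (f • 𝟙 X)] (ξ : X ⟶ L), ξ = 0 := by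
  refine ⟨fun h X _ ξ => hom_eq_zero_of_isIso_smul h ξ, fun h => (subsingleton_hom_away_iff f L).1 fun n => ?_⟩
  haveI := isIso_smul_away f
  suffices hh : ∀ ξ : Dual.inD A (Localization.Away f) ⟶ L⟦n⟧, ξ = 0 from ⟨fun a b => (hh a).trans (hh b).symm⟩
  intro ξ
  apply (CategoryTheory.shiftFunctor (Dual.D A) (-n)).map_injective
  rw [Functor.map_zero]
  exact (cancel_mono ((shiftEquiv (Dual.D A) n).unitIso.inv.app L)).1 ((h _ _).trans zero_comp.symm)

lemma smul_eq_zero_of_isIso {f : A} {X Y : Dual.D A} [IsIso (f • 𝟙 X)] (a : X ⟶ Y) (h : f • a = 0) : a = 0 := by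
  rw [← cancel_epi (f • 𝟙 X), comp_zero, Linear.smul_comp, Category.id_comp, h]

section Seq

variable (C : DRing.Cx A)

/-- Prepend zero. -/
noncomputable def seqRight : seqCx C ⟶ seqCx C where
  f i := ModuleCat.ofHom (LinearMap.pi fun n => Nat.casesOn n 0 fun m => LinearMap.proj m)
  comm' i j _ := by
    refine ModuleCat.hom_ext (LinearMap.ext fun x => funext fun n => ?_)
    cases n with
    | zero => exact map_zero (C.d i j).hom
    | succ m => rfl

/-- Forget the first term. -/
noncomputable def seqLeft : seqCx C ⟶ seqCx C where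
  f i := ModuleCat.ofHom (LinearMap.pi fun n => LinearMap.proj (n + 1))
  comm' _ _ _ := rfl

/-- The sequence with given first term and zeros after. -/
noncomputable def seqHead : C ⟶ seqCx C := seqLift fun n => Nat.casesOn n (𝟙 C) fun _ => 0

lemma seqTel_eq (f : A) : seqTel f C = 𝟙 (seqCx C) - f • seqLeft C := rfl

/-- The map `x ↦ (0, x_0, x_1, …) - f x`. -/
noncomputable def seqPre (f : A) : seqCx C ⟶ seqCx C := seqRight C - f • 𝟙 (seqCx C)

lemma seqHead_proj : seqHead C ≫ seqProj C 0 = 𝟙 C := rfl

lemma seqRight_left : seqRight C ≫ seqLeft C = 𝟙 (seqCx C) := rfl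

lemma seqHead_left : seqHead C ≫ seqLeft C = 0 := by
  refine HomologicalComplex.hom_ext _ _ fun i => ModuleCat.hom_ext (LinearMap.ext fun x => funext fun n => ?_)
  rfl

lemma seqRight_proj : seqRight C ≫ seqProj C 0 = 0 := rfl

lemma seq_split : seqProj C 0 ≫ seqHead C + seqLeft C ≫ seqRight C = 𝟙 (seqCx C) := by
  refine HomologicalComplex.hom_ext _ _ fun i => ModuleCat.hom_ext (LinearMap.ext fun x => funext fun n => ?_)
  cases n with
  | zero => exact add_zero (x 0)
  | succ m => exact zero_add (x (m + 1))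

/-- The derived completion of `C` with respect to `f`. -/
noncomputable abbrev complCx (f : A) : DRing.Cx A := mappingCone (seqPre C f)

/-- The map to the derived completion. -/
noncomputable abbrev toComplCx (f : A) : C ⟶ complCx C f := seqHead C ≫ mappingCone.inr (seqPre C f)

lemma head_tel (f : A) : seqHead C ≫ seqTel f C = seqHead C := by
  rw [seqTel_eq, Preadditive.comp_sub, Category.comp_id, Linear.comp_smul, seqHead_left, smul_zero, sub_zero]

lemma right_tel (f : A) : seqPre C f ≫ 𝟙 (seqCx C) = seqRight C ≫ seqTel f C := by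
  rw [Category.comp_id, seqTel_eq, Preadditive.comp_sub, Category.comp_id, Linear.comp_smul, seqRight_left]
  rfl

/-- The cofibre of the map to the completion is the cone of the telescope. -/
noncomputable def coneToTel (f : A) : mappingCone (toComplCx C f) ⟶ mappingCone (seqTel f C) :=
  mappingCone.desc _ ((Cochain.ofHom (seqHead C)).comp (mappingCone.inl (seqTel f C)) (zero_add _))
    (mappingCone.map (seqPre C f) (seqTel f C) (seqRight C) (𝟙 _) (right_tel C f)) (by
      simp only [δ_zero_cochain_comp, δ_ofHom, toComplCx, Category.assoc, mappingCone.map, mappingCone.inr_desc,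
        Category.id_comp, mappingCone.δ_inl, Cochain.zero_comp, smul_zero, add_zero, Cochain.ofHom_comp]
      rw [δ_ofHom_comp, mappingCone.δ_inl, ← Cochain.ofHom_comp, ← Category.assoc, head_tel]
      exact Cochain.ofHom_comp _ _)

lemma proj_head_add_left_pre (f : A) :
    seqProj C 0 ≫ seqHead C + seqLeft C ≫ seqPre C f = seqTel f C := by
  rw [seqPre, Preadditive.comp_sub, Linear.comp_smul, Category.comp_id, ← add_sub_assoc, seq_split, seqTel_eq]

/-- The inverse of `coneToTel`. -/
noncomputable def telToCone (f : A) : mappingCone (seqTel f C) ⟶ mappingCone (toComplCx C f) :=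
  mappingCone.desc _
    ((Cochain.ofHom (seqProj C 0)).comp (mappingCone.inl (toComplCx C f)) (zero_add _) +
      (Cochain.ofHom (seqLeft C)).comp ((mappingCone.inl (seqPre C f)).comp
        (Cochain.ofHom (mappingCone.inr (toComplCx C f))) (add_zero _)) (zero_add _))
    (mappingCone.inr (seqPre C f) ≫ mappingCone.inr (toComplCx C f)) (by
      simp only [δ_add, δ_zero_cochain_comp, δ_ofHom, Cochain.zero_comp, smul_zero, add_zero,
        mappingCone.δ_inl, δ_comp_zero_cochain, Cochain.comp_zero, zero_add]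
      rw [← proj_head_add_left_pre C f, toComplCx]
      ext p
      simp)

lemma coneToTel_telToCone (f : A) : coneToTel C f ≫ telToCone C f = 𝟙 _ := by
  ext p : 1
  rw [mappingCone.ext_from_iff _ (p + 1) p rfl]
  constructor
  · simp [coneToTel, telToCone, mappingCone.map, ← HomologicalComplex.comp_f_assoc, seqHead_proj, seqHead_left]
  · change _ = _
    rw [show (mappingCone.inr (toComplCx C f)).f p ≫ (coneToTel C f ≫ telToCone C f).f p =
      (mappingCone.map (seqPre C f) (seqTel f C) (seqRight C) (𝟙 _) (right_tel C f) ≫ telToCone C f).f p by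
        simp [coneToTel]]
    apply mappingCone.ext_from _ (p + 1) p rfl
    · simp [telToCone, mappingCone.map, ← HomologicalComplex.comp_f_assoc, seqRight_proj, seqRight_left]
    · simp [telToCone, mappingCone.map]

lemma telToCone_coneToTel (f : A) : telToCone C f ≫ coneToTel C f = 𝟙 _ := by
  ext p : 1
  rw [mappingCone.ext_from_iff _ (p + 1) p rfl]
  constructor
  · have hs := congrArg (fun g : seqCx C ⟶ seqCx C => g.f (p + 1)) (seq_split C)
    simp only [HomologicalComplex.add_f_apply, HomologicalComplex.comp_f, HomologicalComplex.id_f] at hs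
    simp [coneToTel, telToCone, mappingCone.map]
    simp only [← Category.assoc, ← Preadditive.add_comp, hs, Category.id_comp]
  · simp [coneToTel, telToCone, mappingCone.map]

/-- `f` is invertible on the cofibre of the map to the completion. -/
theorem isIso_smul_cone (f : A) : IsIso (f • 𝟙 (DRing.toD (mappingCone (toComplCx C f)))) := by
  have hcomm : seqTel f C ≫ seqLeft C = seqLeft C ≫ seqTel f C := by
    rw [seqTel_eq, Preadditive.sub_comp, Preadditive.comp_sub, Category.id_comp, Category.comp_id, Linear.smul_comp,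
      Linear.comp_smul]
  let σ := mappingCone.map (seqTel f C) (seqTel f C) (seqLeft C) (seqLeft C) hcomm
  let τ := mappingCone.map (seqTel f C) (seqTel f C) (seqTel f C) (seqTel f C) rfl
  have h0 : Homotopy τ 0 := mappingCone.descHomotopy _ _ _ 0 (mappingCone.inl _)
    (by simp [τ, mappingCone.map])
    (by simp [τ, mappingCone.map])
  have hτ : τ = 𝟙 _ - f • σ := by
    ext p : 1
    rw [mappingCone.ext_from_iff _ (p + 1) p rfl]
    have htf : ∀ q, (seqTel f C).f q = 𝟙 _ - f • (seqLeft C).f q := fun q => rfl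
    constructor <;>
      simp [τ, σ, mappingCone.map, Preadditive.sub_comp, Linear.smul_comp, Preadditive.comp_sub,
        Linear.comp_smul] <;>
      simp only [htf, Preadditive.sub_comp, Linear.smul_comp, Category.id_comp]
  have h1 : (f • 𝟙 (DRing.toD (mappingCone (seqTel f C)))) ≫ DerivedCategory.Q.map σ = 𝟙 _ ∧
      DerivedCategory.Q.map σ ≫ (f • 𝟙 (DRing.toD (mappingCone (seqTel f C)))) = 𝟙 _ := by
    have h2 := DerivedCategory.Q_map_eq_of_homotopy _ h0
    rw [hτ, Functor.map_sub, Functor.map_smul, Functor.map_zero, sub_eq_zero, CategoryTheory.Functor.map_id] at h2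
    constructor
    · rw [Linear.smul_comp, Category.id_comp]
      exact h2.symm
    · rw [Linear.comp_smul, Category.comp_id]
      exact h2.symm
  haveI : IsIso (f • 𝟙 (DRing.toD (mappingCone (seqTel f C)))) := ⟨_, h1.1, h1.2⟩
  exact isIso_smul_of_iso (DerivedCategory.Q.mapIso
    ⟨telToCone C f, coneToTel C f, telToCone_coneToTel C f, coneToTel_telToCone C f⟩)

/-- Precomposition with the completion map is bijective for derived complete targets. -/
theorem precomp_toComplCx_bijective (f : A) {E : Dual.D A} (hE : DCObj f E) :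
    Function.Bijective (fun ψ : DRing.toD (complCx C f) ⟶ E => DerivedCategory.Q.map (toComplCx C f) ≫ ψ) := by
  haveI := isIso_smul_cone C f
  have h := (subsingleton_iff_precomp_bijective _
    (DerivedCategory.mappingCone_triangle_distinguished (toComplCx C f)) E).1 fun n =>
      ⟨fun a b => by
        rw [(dcObj_iff_orth f _).1 (dcObj_shift hE n) (DRing.toD (mappingCone (toComplCx C f))) a,
          (dcObj_iff_orth f _).1 (dcObj_shift hE n) (DRing.toD (mappingCone (toComplCx C f))) b]⟩
  have h0 := h 0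
  let e := (CategoryTheory.shiftFunctorZero (Dual.D A) ℤ).app E
  refine ⟨fun a b hab => ?_, fun b => ?_⟩
  · refine (cancel_mono e.inv).1 (h0.1 ?_)
    change DerivedCategory.Q.map (toComplCx C f) ≫ a ≫ e.inv = DerivedCategory.Q.map (toComplCx C f) ≫ b ≫ e.inv
    rw [← Category.assoc, ← Category.assoc]
    exact congrArg (· ≫ e.inv) hab
  · obtain ⟨a, ha⟩ := h0.2 (b ≫ e.inv)
    refine ⟨a ≫ e.hom, ?_⟩
    change DerivedCategory.Q.map (toComplCx C f) ≫ a ≫ e.hom = b
    rw [← Category.assoc, show DerivedCategory.Q.map (toComplCx C f) ≫ a = b ≫ e.inv from ha]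
    simp

variable [C.IsKInjective]

/-- Maps into a complex of sequences are determined by their components. -/
theorem seq_hom_ext {X : Dual.D A} (g g' : X ⟶ DRing.toD (seqCx C))
    (h : ∀ n, g ≫ DerivedCategory.Q.map (seqProj C n) = g' ≫ DerivedCategory.Q.map (seqProj C n)) : g = g' := by
  haveI : (seqCx C).IsKInjective := ⟨fun φ hK => nonempty_homotopy_seq φ 0 fun n => by
    rw [zero_comp]
    exact CochainComplex.IsKInjective.nonempty_homotopy_zero (φ ≫ seqProj C n) hK⟩
  obtain ⟨P, ⟨eP⟩⟩ : ∃ P : DRing.Cx A, Nonempty (DRing.toD P ≅ X) :=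
    ⟨_, ⟨DerivedCategory.Q.objObjPreimageIso X⟩⟩
  obtain ⟨x, hx⟩ := DR.exists_lift_inj (eP.hom ≫ g)
  obtain ⟨y, hy⟩ := DR.exists_lift_inj (eP.hom ≫ g')
  obtain ⟨H⟩ := nonempty_homotopy_seq x y fun n => by
    refine ⟨HomotopyCategory.homotopyOfEq _ _ ((CochainComplex.IsKInjective.Qh_map_bijective _ C).1 ?_)⟩
    have h1 : DerivedCategory.Q.map (x ≫ seqProj C n) = DerivedCategory.Q.map (y ≫ seqProj C n) := by
      rw [Functor.map_comp, Functor.map_comp, hx, hy, Category.assoc, Category.assoc, h n]
    let eA := DerivedCategory.quotientCompQhIso (ModuleCat.{u} A)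
    have key : ∀ u : P ⟶ C, DerivedCategory.Qh.map ((HomotopyCategory.quotient _ _).map u) =
        eA.hom.app P ≫ DerivedCategory.Q.map u ≫ eA.inv.app C := fun u => by
      have h := eA.hom.naturality u
      simp only [Functor.comp_map] at h
      rw [← Category.assoc, ← h, Category.assoc, Iso.hom_inv_id_app]
      exact (Category.comp_id _).symm
    simp only [key, h1]
  rw [← cancel_epi eP.hom, ← hx, ← hy, DerivedCategory.Q_map_eq_of_homotopy _ H]

/-- Maps into a complex of sequences from their components. -/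
theorem exists_seq_hom {X : Dual.D A} (ξ : ℕ → (X ⟶ DRing.toD C)) :
    ∃ g : X ⟶ DRing.toD (seqCx C), ∀ n, g ≫ DerivedCategory.Q.map (seqProj C n) = ξ n := by
  obtain ⟨P, ⟨eP⟩⟩ : ∃ P : DRing.Cx A, Nonempty (DRing.toD P ≅ X) :=
    ⟨_, ⟨DerivedCategory.Q.objObjPreimageIso X⟩⟩
  choose x hx using fun n => DR.exists_lift_inj (eP.hom ≫ ξ n)
  refine ⟨eP.inv ≫ DerivedCategory.Q.map (seqLift x), fun n => ?_⟩
  rw [Category.assoc, ← Functor.map_comp, show seqLift x ≫ seqProj C n = x n from rfl, hx, eP.inv_hom_id_assoc]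

omit [C.IsKInjective] in
lemma seqPre_proj_zero (f : A) :
    DerivedCategory.Q.map (seqPre C f) ≫ DerivedCategory.Q.map (seqProj C 0) =
      -(f • DerivedCategory.Q.map (seqProj C 0)) := by
  rw [← Functor.map_comp, seqPre, Preadditive.sub_comp, seqRight_proj, Linear.smul_comp, Category.id_comp,
    zero_sub, Functor.map_neg, Functor.map_smul]

omit [C.IsKInjective] in
lemma seqPre_proj_succ (f : A) (n : ℕ) :
    DerivedCategory.Q.map (seqPre C f) ≫ DerivedCategory.Q.map (seqProj C (n + 1)) =
      DerivedCategory.Q.map (seqProj C n) - f • DerivedCategory.Q.map (seqProj C (n + 1)) := by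
  rw [← Functor.map_comp, seqPre, Preadditive.sub_comp, Linear.smul_comp, Category.id_comp,
    show seqRight C ≫ seqProj C (n + 1) = seqProj C n from rfl, Functor.map_sub, Functor.map_smul]

/-- The completion is derived complete for `f`, and stays so for every element for which `C` was. -/
theorem dcObj_complCx (f g : A) (hg : g = f ∨ DCObj g (DRing.toD C)) : DCObj g (DRing.toD (complCx C f)) := by
  rw [dcObj_iff_orth]
  intro X _ ξ
  -- precomposition with `seqPre` is bijective
  have hb : ∀ (Y : Dual.D A) [IsIso (g • 𝟙 Y)],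
      Function.Bijective (fun a : Y ⟶ DRing.toD (seqCx C) => a ≫ DerivedCategory.Q.map (seqPre C f)) := by
    intro Y _
    rcases hg with rfl | hg
    · let ψ := inv (g • 𝟙 Y)
      have hψ : ∀ {Z : Dual.D A} (c : Y ⟶ Z), g • (ψ ≫ c) = c := fun c => by
        have h := IsIso.inv_hom_id (g • 𝟙 Y)
        rw [Linear.comp_smul, Category.comp_id] at h
        rw [← Linear.smul_comp, h, Category.id_comp]
      refine ⟨fun a b hab => seq_hom_ext C a b fun n => ?_, fun b => ?_⟩
      · induction n with
        | zero =>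
          have h := congrArg (· ≫ DerivedCategory.Q.map (seqProj C 0)) hab
          simp only [Category.assoc, seqPre_proj_zero, Preadditive.comp_neg, Linear.comp_smul, neg_inj] at h
          exact sub_eq_zero.1 (smul_eq_zero_of_isIso _ (by rw [smul_sub, h, sub_self]))
        | succ n ih =>
          have h := congrArg (· ≫ DerivedCategory.Q.map (seqProj C (n + 1))) hab
          simp only [Category.assoc, seqPre_proj_succ, Preadditive.comp_sub, Linear.comp_smul, ih, sub_right_inj] at h
          exact sub_eq_zero.1 (smul_eq_zero_of_isIso _ (by rw [smul_sub, h, sub_self]))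
      · let β : ℕ → (Y ⟶ DRing.toD C) := fun n => b ≫ DerivedCategory.Q.map (seqProj C n)
        let α : ℕ → (Y ⟶ DRing.toD C) := fun n =>
          Nat.rec (-(ψ ≫ β 0)) (fun m a => ψ ≫ (a - β (m + 1))) n
        obtain ⟨a, ha⟩ := exists_seq_hom C α
        refine ⟨a, seq_hom_ext C _ _ fun n => ?_⟩
        cases n with
        | zero =>
          rw [Category.assoc, seqPre_proj_zero, Preadditive.comp_neg, Linear.comp_smul, ha,
            show α 0 = -(ψ ≫ β 0) from rfl, smul_neg, neg_neg, hψ]
        | succ m =>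
          rw [Category.assoc, seqPre_proj_succ, Preadditive.comp_sub, Linear.comp_smul, ha, ha,
            show α (m + 1) = ψ ≫ (α m - β (m + 1)) from rfl, hψ, sub_sub_cancel]
    · have h0 : ∀ a : Y ⟶ DRing.toD (seqCx C), a = 0 := fun a => seq_hom_ext C a 0 fun n => by
        rw [zero_comp]
        exact (dcObj_iff_orth g _).1 hg Y _
      exact ⟨fun a b _ => (h0 a).trans (h0 b).symm, fun b => ⟨0, by simp [h0 b]⟩⟩
  let T := mappingCone.triangle (seqPre C f)
  have hT := DerivedCategory.mappingCone_triangle_distinguished (seqPre C f)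
  -- the boundary of `ξ` vanishes
  obtain ⟨X', ⟨e⟩⟩ : ∃ X' : Dual.D A, Nonempty (X'⟦(1 : ℤ)⟧ ≅ X) :=
    ⟨X⟦(-1 : ℤ)⟧, ⟨(shiftEquiv (Dual.D A) (1 : ℤ)).counitIso.app X⟩⟩
  haveI : IsIso (g • 𝟙 X') := by
    haveI := isIso_smul_of_iso (f := g) e.symm
    have : IsIso ((g • 𝟙 X')⟦(1 : ℤ)⟧') := by
      rwa [Functor.map_smul, CategoryTheory.Functor.map_id]
    exact isIso_of_reflects_iso _ (CategoryTheory.shiftFunctor (Dual.D A) (1 : ℤ))
  obtain ⟨a, ha⟩ := (CategoryTheory.shiftFunctor (Dual.D A) (1 : ℤ)).map_surjective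
    (e.hom ≫ ξ ≫ (DerivedCategory.Q.mapTriangle.obj T).mor₃)
  have hz : ξ ≫ (DerivedCategory.Q.mapTriangle.obj T).mor₃ = 0 := by
    have h1 : a ≫ DerivedCategory.Q.map (seqPre C f) = 0 := by
      apply (CategoryTheory.shiftFunctor (Dual.D A) (1 : ℤ)).map_injective
      rw [Functor.map_comp, ha, Functor.map_zero, Category.assoc, Category.assoc]
      erw [comp_distTriang_mor_zero₃₁ _ hT, comp_zero]
      exact comp_zero
    have h2 : a = 0 := (hb X').1 (h1.trans zero_comp.symm)
    rw [h2, Functor.map_zero] at ha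
    exact (cancel_epi e.hom).1 (ha.symm.trans comp_zero.symm)
  obtain ⟨a', ha'⟩ := Triangle.coyoneda_exact₃ _ hT ξ hz
  obtain ⟨a'', rfl⟩ := (hb X).2 a'
  rw [ha']
  erw [Category.assoc, comp_distTriang_mor_zero₁₂ _ hT]
  exact comp_zero

end Seq

end GrothLib.DCpl
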