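import Groth.Agent.Lib.DCxRHom.Completion
import Groth.Agent.Lib.DCxRing.Stupid
import Groth.Agent.Lib.DCxKFlat.Balance
import Groth.Agent.Lib.DCxRing.Coherent
import Groth.Agent.Lib.DCxRing.Homology
import Mathlib.LinearAlgebra.TensorProduct.Pi

/-!
# Derived completion and tensor products with complexes of finite free modules
-/

set_option autoImplicit false
set_option maxHeartbeats 800000
universe u

open CategoryTheory CategoryTheory.Limits MonoidalCategory HomologicalComplex CochainComplex.HomComplex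
  Pretriangulated

attribute [local instance] HasDerivedCategory.standard

namespace GrothLib.DCpl

open GrothLib.RH

variable {A : Type u} [CommRing A]

/-- Tensoring a morphism with a complex on the right. -/
noncomputable abbrev tensR {P T : DRing.Cx A} (φ : P ⟶ T) (F : DRing.Cx A) : tens P F ⟶ tens T F :=
  ((KF.tensorCx (R := A)).map φ).app F

/-- Maps into a K-injective complex which agree in the derived category are homotopic. -/
lemma homotopic_of_Q_eq {P J : DRing.Cx A} [J.IsKInjective] {u v : P ⟶ J}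
    (h : DerivedCategory.Q.map u = DerivedCategory.Q.map v) : Nonempty (Homotopy u v) := by
  refine ⟨HomotopyCategory.homotopyOfEq _ _ ((CochainComplex.IsKInjective.Qh_map_bijective _ J).1 ?_)⟩
  let eA := DerivedCategory.quotientCompQhIso (ModuleCat.{u} A)
  have hu := eA.hom.naturality u
  have hv := eA.hom.naturality v
  rw [h] at hu
  exact (cancel_mono (eA.hom.app J)).1 (hu.trans hv.symm)

section Adjunction

variable (P F J : DRing.Cx A)

/-- Currying of morphisms of complexes. -/
noncomputable def toTens (u : P ⟶ DRing.homCx F J) : tens P F ⟶ J :=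
  Cocycle.homOf (Cocycle.mk (assocEquiv P F J 0 (Cochain.ofHom u)) 1 rfl
    (by rw [assocEquiv_δ' P F J 0 1 rfl, δ_ofHom, map_zero]))

lemma ofHom_toTens (u : P ⟶ DRing.homCx F J) :
    Cochain.ofHom (toTens P F J u) = assocEquiv P F J 0 (Cochain.ofHom u) :=
  Cocycle.cochain_ofHom_homOf_eq_coe _

lemma toTens_surjective : Function.Surjective (toTens P F J) := fun w => by
  obtain ⟨c, hc⟩ := (assocEquiv P F J 0).surjective (Cochain.ofHom w)
  have hδ : δ 0 1 c = 0 := (assocEquiv P F J 1).injective (by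
    rw [← assocEquiv_δ' P F J 0 1 rfl, hc, δ_ofHom, map_zero])
  refine ⟨Cocycle.homOf (Cocycle.mk c 1 rfl hδ), Cochain.ofHom_injective ?_⟩
  rw [ofHom_toTens, Cocycle.cochain_ofHom_homOf_eq_coe]
  exact hc

lemma homotopic_toTens_iff (u v : P ⟶ DRing.homCx F J) :
    Nonempty (Homotopy (toTens P F J u) (toTens P F J v)) ↔ Nonempty (Homotopy u v) := by
  constructor
  · rintro ⟨h⟩
    obtain ⟨z, hz⟩ := Cochain.equivHomotopy _ _ h
    obtain ⟨b, rfl⟩ := (assocEquiv P F J (-1)).surjective z
    refine ⟨(Cochain.equivHomotopy u v).symm ⟨b, (assocEquiv P F J 0).injective ?_⟩⟩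
    rw [map_add, ← ofHom_toTens, ← ofHom_toTens, ← assocEquiv_δ' P F J (-1) 0 rfl]
    exact hz
  · rintro ⟨h⟩
    obtain ⟨z, hz⟩ := Cochain.equivHomotopy _ _ h
    refine ⟨(Cochain.equivHomotopy _ _).symm ⟨assocEquiv P F J (-1) z, ?_⟩⟩
    rw [ofHom_toTens, ofHom_toTens, assocEquiv_δ' P F J (-1) 0 rfl, hz, map_add]

variable {P} in
lemma toTens_comp {T : DRing.Cx A} (φ : P ⟶ T) (u : T ⟶ DRing.homCx F J) :
    toTens P F J (φ ≫ u) = tensR φ F ≫ toTens T F J u := by
  apply Cochain.ofHom_injective
  rw [ofHom_toTens, Cochain.ofHom_comp, Cochain.ofHom_comp, ofHom_toTens]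
  refine cochain_tens_ext P F J 0 fun s t hst p r h x y => ?_
  obtain rfl : s = t := by omega
  refine (uncurryFun_v P F J 0 _ s s hst p r h p (add_zero p) x y).trans ?_
  rw [Cochain.zero_cochain_comp_v, Cochain.ofHom_v]
  refine Eq.trans ?_ (congrArg ((assocEquiv T F J 0 (Cochain.ofHom u)).v s s hst)
    (ConcreteCategory.congr_hom (HomologicalComplex.ι_mapBifunctorMap φ (𝟙 F)
      (curriedTensor (ModuleCat.{u} A)) (ComplexShape.up ℤ) p r s h) (x ⊗ₜ y))).symm
  refine Eq.trans ?_ (uncurryFun_v T F J 0 (Cochain.ofHom u) s s hst p r h p (add_zero p) (φ.f p x) y).symm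
  simp only [bil, LinearMap.comp_apply]
  rw [Cochain.zero_cochain_comp_v, Cochain.ofHom_v]
  rfl

end Adjunction

/-- A reflection into derived complete objects stays one after tensoring with a K-flat complex. -/
theorem bijective_tensR {P T F : DRing.Cx A} (I : Ideal A) (φ : P ⟶ T) (hF : KF.IsKFlat F)
    (h : ∀ E : Dual.D A, DRing.IsDerivedComplete I E →
      Function.Bijective (fun ψ : DRing.toD T ⟶ E => DerivedCategory.Q.map φ ≫ ψ))
    {E : Dual.D A} (hE : DRing.IsDerivedComplete I E) :
    Function.Bijective (fun ψ : DRing.toD (tens T F) ⟶ E => DerivedCategory.Q.map (tensR φ F) ≫ ψ) := by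
  haveI := hasRHomCx F
  obtain ⟨J, hJ, ⟨eJ⟩⟩ := exists_kInjective_rep E
  haveI := isKInjective_homCx F J hF
  have hH : DRing.IsDerivedComplete I (DRing.toD (DRing.homCx F J)) := by
    have h1 := isDerivedComplete_rHom F I hE
    have e : (DRing.RHomCx F).obj E ≅ DRing.toD (DRing.homCx F J) :=
      (DRing.RHomCx F).mapIso eJ ≪≫ (rHom_value F J).some
    rw [isDerivedComplete_iff] at h1 ⊢
    exact fun g hg => dcObj_of_iso e (h1 g hg)
  have hb : Function.Bijective (fun ψ : DRing.toD (tens T F) ⟶ DRing.toD J =>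
      DerivedCategory.Q.map (tensR φ F) ≫ ψ) := by
    refine ⟨fun a b hab => ?_, fun b => ?_⟩
    · obtain ⟨a, rfl⟩ := DR.exists_lift_inj a
      obtain ⟨b, rfl⟩ := DR.exists_lift_inj b
      obtain ⟨a, rfl⟩ := toTens_surjective T F J a
      obtain ⟨b, rfl⟩ := toTens_surjective T F J b
      have hab' : Nonempty (Homotopy (φ ≫ a) (φ ≫ b)) := by
        rw [← homotopic_toTens_iff, toTens_comp, toTens_comp]
        exact homotopic_of_Q_eq (by simpa using hab)
      have hq : DerivedCategory.Q.map a = DerivedCategory.Q.map b := (h _ hH).1 (by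
        simpa using DerivedCategory.Q_map_eq_of_homotopy _ hab'.some)
      obtain ⟨hh⟩ := (homotopic_toTens_iff T F J a b).2 (homotopic_of_Q_eq hq)
      exact DerivedCategory.Q_map_eq_of_homotopy _ hh
    · obtain ⟨b, rfl⟩ := DR.exists_lift_inj b
      obtain ⟨b, rfl⟩ := toTens_surjective P F J b
      obtain ⟨a, ha⟩ := (h _ hH).2 (DerivedCategory.Q.map b)
      obtain ⟨a, rfl⟩ := DR.exists_lift_inj a
      obtain ⟨hh⟩ := (homotopic_toTens_iff P F J (φ ≫ a) b).2 (homotopic_of_Q_eq (by simpa using ha))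
      refine ⟨DerivedCategory.Q.map (toTens T F J a), ?_⟩
      change DerivedCategory.Q.map (tensR φ F) ≫ DerivedCategory.Q.map (toTens T F J a) = _
      rw [← Functor.map_comp, ← toTens_comp]
      exact DerivedCategory.Q_map_eq_of_homotopy _ hh
  have := (Iso.homToEquiv eJ.symm).bijective.comp (hb.comp (Iso.homToEquiv eJ).bijective)
  convert this using 1
  funext ψ
  simp

section Finite

/-- Tensoring with a finite free module preserves derived completeness. -/
theorem dcObj_tensorCx {g : A} {T : DRing.Cx A} (hT : DCObj g (DRing.toD T)) (M : ModuleCat.{u} A)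
    [Module.Finite A M] [Module.Free A M] : DCObj g (DRing.toD (DRing.tensorCx T M)) := fun n => by
  classical
  haveI : (tensorRight M).PreservesHomology := Functor.preservesHomology_of_map_exact _ fun S hS => by
    rw [ShortComplex.ShortExact.moduleCat_exact_iff_function_exact] at hS ⊢
    exact Module.Flat.rTensor_exact (R := A) M hS
  let H := Dual.HD A (DRing.toD T) n
  let e₁ : (DRing.tensorCx T M).homology n ≅ (tensorRight M).obj (T.homology n) :=
    (T.sc n).mapHomologyIso (tensorRight M)
  let e₂ : Dual.HD A (DRing.toD (DRing.tensorCx T M)) n ≃ₗ[A] TensorProduct A H M :=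
    (DR.homologyIso (DRing.tensorCx T M) n ≪≫ e₁ ≪≫
      (tensorRight M).mapIso (DR.homologyIso T n).symm).toLinearEquiv
  let b := Module.Free.chooseBasis A M
  let e₃ : TensorProduct A H M ≃ₗ[A] (Module.Free.ChooseBasisIndex A M → H) :=
    (TensorProduct.congr (LinearEquiv.refl A H) b.equivFun).trans
      (TensorProduct.piScalarRight A A H _)
  exact dcMod_of_equiv (e₂.trans e₃).symm (dcMod_pi (hT n))

/-- Tensoring with a finite free module in one degree preserves derived completeness. -/
theorem dcObj_tens_single {g : A} {T : DRing.Cx A} (hT : DCObj g (DRing.toD T)) (i : ℤ) (M : ModuleCat.{u} A)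
    [Module.Finite A M] [Module.Free A M] :
    DCObj g (DRing.toD (tens T ((HomologicalComplex.single (ModuleCat.{u} A) (ComplexShape.up ℤ) i).obj M))) := by
  let F := (KF.tensorCx (R := A)).obj T
  let e : (HomologicalComplex.single (ModuleCat.{u} A) (ComplexShape.up ℤ) i).obj M ≅
      ((HomologicalComplex.single (ModuleCat.{u} A) (ComplexShape.up ℤ) 0).obj M)⟦-i⟧ :=
    (((CochainComplex.singleFunctors (ModuleCat.{u} A)).shiftIso (-i) i 0 (by omega)).app M).symm
  refine dcObj_of_iso (Iso.symm ?_) (dcObj_shift (dcObj_tensorCx hT M) (-i))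
  exact DerivedCategory.Q.mapIso (F.mapIso e ≪≫ (F.commShiftIso (-i)).app _ ≪≫
      (CategoryTheory.shiftFunctor (DRing.Cx A) (-i)).mapIso (KF.singleIso T M).symm) ≪≫
    (DerivedCategory.Q.commShiftIso (-i)).app _

lemma dcObj_of_isZero {g : A} {X : Dual.D A} (h : IsZero X) : DCObj g X :=
  (dcObj_iff_orth g X).2 fun _ _ _ => h.eq_of_tgt _ _

/-- Tensoring with a bounded complex of finite free modules preserves derived completeness. -/
theorem dcObj_tens_sigmaGE {g : A} {T : DRing.Cx A} (hT : DCObj g (DRing.toD T)) {F : DRing.Cx A} {c : ℤ}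
    (hc : DRing.VanishesAbove F c) (hF : DRing.TermwiseFiniteFree F) (m : ℤ) :
    DCObj g (DRing.toD (tens T (DerBC.sigmaGE m F))) := by
  obtain ⟨k, hk⟩ : ∃ k : ℕ, c + 1 ≤ m + k := ⟨(c + 1 - m).toNat, by omega⟩
  induction k generalizing m with
  | zero =>
    refine dcObj_of_isZero (Functor.map_isZero _ (((KF.tensorCx (R := A)).obj T).map_isZero
      ((IsZero.iff_id_eq_zero _).2 (HomologicalComplex.hom_ext _ _ fun i => ?_))))
    refine IsZero.eq_of_src ?_ _ _
    by_cases h : i < m
    · exact DerBC.isZero_sigmaGE F h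
    · exact DR.isZero_sigmaGE_of m i F (hc i (by push_cast at hk; omega))
  | succ k ih =>
    haveI := (hF m).1
    haveI := (hF m).2
    have hS := KF.tensorCx_shortExact_of_flat (DR.sigma_shortExact m F)
      (KF.flatTerms_single (F.X m) (inferInstanceAs (Module.Flat A (F.X m))) m) T
    have hTri := DerivedCategory.triangleOfSES_distinguished hS
    have h1 : DCObj g (DerivedCategory.triangleOfSES hS).obj₁ := ih (m + 1) (by push_cast at hk; omega)
    have h3 : DCObj g (DerivedCategory.triangleOfSES hS).obj₃ := dcObj_tens_single hT m (F.X m)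
    refine (dcObj_iff_orth g _).2 fun X _ ξ => ?_
    change X ⟶ (DerivedCategory.triangleOfSES hS).obj₂ at ξ
    obtain ⟨y, hy⟩ := Triangle.coyoneda_exact₂ _ hTri ξ ((dcObj_iff_orth g _).1 h3 X _)
    exact hy.trans (((dcObj_iff_orth g _).1 h1 X y).symm ▸ zero_comp)

/-- Tensoring with a bounded above complex of finite free modules preserves derived completeness of bounded
above complexes. -/
theorem dcObj_tens {g : A} {T : DRing.Cx A} {b : ℤ} (hTb : DRing.VanishesAbove T b)
    (hT : DCObj g (DRing.toD T)) {F : DRing.Cx A} {c : ℤ} (hc : DRing.VanishesAbove F c)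
    (hF : DRing.TermwiseFiniteFree F) : DCObj g (DRing.toD (tens T F)) := fun n => by
  let k := n - 1 - b
  let ψ := ((KF.tensorCx (R := A)).obj T).map (DerBC.sigmaι k F)
  have hψ : ∀ j, n - 1 ≤ j → IsIso (ψ.f j) := fun j hj => by
    haveI : ∀ p, IsIso (((KF.summandsFun T j).map (DerBC.sigmaι k F)).app p) := fun p => by
      change IsIso (((curriedTensor (ModuleCat.{u} A)).obj (T.X p.as)).map ((DerBC.sigmaι k F).f (j - p.as)))
      by_cases hp : b < p.as
      · exact Limits.IsZero.isIso (((curriedTensor (ModuleCat.{u} A)).flip.obj _).map_isZero (hTb _ hp))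
          (((curriedTensor (ModuleCat.{u} A)).flip.obj _).map_isZero (hTb _ hp)) _
      · haveI := DerBC.isIso_sigmaι_f (i := j - p.as) F (show k ≤ j - p.as by omega)
        infer_instance
    haveI : IsIso ((KF.summandsFun T j).map (DerBC.sigmaι k F)) := NatIso.isIso_of_isIso_app _
    exact ((MorphismProperty.isomorphisms (ModuleCat.{u} A)).arrow_mk_iso_iff
      (Arrow.isoMk ((KF.degIso T j).app (DerBC.sigmaGE k F)) ((KF.degIso T j).app F)
        ((KF.degIso T j).hom.naturality (DerBC.sigmaι k F)).symm)).1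
      (inferInstanceAs (IsIso (colim.map ((KF.summandsFun T j).map (DerBC.sigmaι k F)))))
  haveI := hψ (n - 1) le_rfl
  haveI := hψ n (by omega)
  haveI := hψ (n + 1) (by omega)
  haveI : IsIso ((HomologicalComplex.shortComplexFunctor' (ModuleCat.{u} A) (ComplexShape.up ℤ) (n - 1) n (n + 1)).map ψ) :=
    @ShortComplex.isIso_of_isIso _ _ _ _ _ _ (hψ (n - 1) le_rfl) (hψ n (by omega)) (hψ (n + 1) (by omega))
  haveI : QuasiIsoAt ψ n := by
    rw [quasiIsoAt_iff' ψ (n - 1) n (n + 1) (by simp) (by simp)]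
    infer_instance
  exact dcMod_of_equiv ((DR.homologyIso _ n ≪≫ isoOfQuasiIsoAt ψ n ≪≫ (DR.homologyIso _ n).symm).toLinearEquiv)
    (dcObj_tens_sigmaGE hT hc hF k n)

end Finite

section Values

/-- The derived tensor product on a morphism of K-flat complexes. -/
theorem lTensorCx_map_value (F : DRing.Cx A) [DRing.HasLTensorCx A F] {P T : DRing.Cx A} (φ : P ⟶ T)
    (hP : KF.IsKFlat P) (hT : KF.IsKFlat T) :
    Nonempty (Arrow.mk ((DRing.LTensorCx A F).map (DerivedCategory.Q.map φ)) ≅
      Arrow.mk (DerivedCategory.Q.map (tensR φ F))) := by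
  let c := (DRing.tensorCxQ A F).totalLeftDerivedCounit DerivedCategory.Q
    (HomologicalComplex.quasiIso (ModuleCat.{u} A) (ComplexShape.up ℤ))
  haveI : ∀ {K : DRing.Cx A}, KF.IsKFlat K → IsIso (c.app K) := fun hK =>
    (KF.cxResolvable F).isIso_app_of_isLeftDerivedFunctor _ c hK
  exact ⟨@Arrow.isoMk _ _ (Arrow.mk _) (Arrow.mk _)
    (@asIso _ _ _ _ (c.app P) ((KF.cxResolvable F).isIso_app_of_isLeftDerivedFunctor _ c hP))
    (@asIso _ _ _ _ (c.app T) ((KF.cxResolvable F).isIso_app_of_isLeftDerivedFunctor _ c hT))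
    (c.naturality φ).symm⟩

/-- The derived tensor product with a module on a morphism of K-flat complexes. -/
theorem lTensor_map_value (M : ModuleCat.{u} A) [DRing.HasLTensor A M] {P T : DRing.Cx A} (φ : P ⟶ T)
    (hP : KF.IsKFlat P) (hT : KF.IsKFlat T) :
    Nonempty (Arrow.mk ((DRing.LTensor A M).map (DerivedCategory.Q.map φ)) ≅
      Arrow.mk (DerivedCategory.Q.map (((tensorRight M).mapHomologicalComplex (ComplexShape.up ℤ)).map φ))) := by
  let q := HomotopyCategory.quotient (ModuleCat.{u} A) (ComplexShape.up ℤ)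
  let c := (DRing.tensorKh A M).totalLeftDerivedCounit DerivedCategory.Qh
    (HomotopyCategory.quasiIso (ModuleCat.{u} A) (ComplexShape.up ℤ))
  let eA := DerivedCategory.quotientCompQhIso (ModuleCat.{u} A)
  let G := (tensorRight M).mapHomologicalComplex (ComplexShape.up ℤ)
  have hiso : ∀ {K : DRing.Cx A}, KF.IsKFlat K → IsIso (c.app (q.obj K)) := fun hK =>
    (KF.leftResolvable M).isIso_app_of_isLeftDerivedFunctor _ c hK
  let w := fun (K : DRing.Cx A) (hK : KF.IsKFlat K) =>
    (DRing.LTensor A M).mapIso (eA.app K).symm ≪≫ @asIso _ _ _ _ (c.app (q.obj K)) (hiso hK) ≪≫ eA.app (G.obj K)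
  refine ⟨Arrow.isoMk (w P hP) (w T hT) ?_⟩
  have h1 := eA.inv.naturality φ
  have h2 := c.naturality (q.map φ)
  have h3 := eA.hom.naturality (G.map φ)
  simp only [Functor.comp_map] at h1 h2 h3
  simp only [w, Iso.trans_hom, asIso_hom, Functor.mapIso_hom, Iso.symm_hom, Iso.app_inv, Iso.app_hom,
    Arrow.mk_hom, Category.assoc]
  rw [← Functor.map_comp_assoc, h1, Functor.map_comp_assoc]
  erw [reassoc_of% h2]
  exact congrArg (fun z => (DRing.LTensor A M).map (eA.inv.app P) ≫ c.app (q.obj P) ≫ z) h3.symm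

/-- Tensoring with a module through a resolution by finite free modules. -/
theorem tensorRight_map_value {M : ModuleCat.{u} A} {F : DRing.Cx A}
    (q : F ⟶ (HomologicalComplex.single (ModuleCat.{u} A) (ComplexShape.up ℤ) 0).obj M) [QuasiIso q]
    {P T : DRing.Cx A} (φ : P ⟶ T) (hP : KF.IsKFlat P) (hT : KF.IsKFlat T) :
    Nonempty (Arrow.mk (DerivedCategory.Q.map (tensR φ F)) ≅
      Arrow.mk (DerivedCategory.Q.map (((tensorRight M).mapHomologicalComplex (ComplexShape.up ℤ)).map φ))) := by
  let S := (HomologicalComplex.single (ModuleCat.{u} A) (ComplexShape.up ℤ) 0).obj M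
  have hnat : ((tensorRight M).mapHomologicalComplex (ComplexShape.up ℤ)).map φ ≫ (KF.singleIso T M).hom =
      (KF.singleIso P M).hom ≫ tensR φ S := by
    refine HomologicalComplex.hom_ext _ _ fun n => ModuleCat.MonoidalCategory.tensor_ext fun x y => ?_
    exact (ConcreteCategory.congr_hom (HomologicalComplex.ι_mapBifunctorMap φ (𝟙 S)
      (curriedTensor (ModuleCat.{u} A)) (ComplexShape.up ℤ) n 0 n (add_zero n))
        (x ⊗ₜ (HomologicalComplex.singleObjXSelf (ComplexShape.up ℤ) 0 M).inv y)).symm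
  haveI := KF.quasiIso_tensor_map_of_isKFlat q P hP
  haveI := KF.quasiIso_tensor_map_of_isKFlat q T hT
  haveI := quasiIso_Q (((KF.tensorCx (R := A)).obj P).map q)
  haveI := quasiIso_Q (((KF.tensorCx (R := A)).obj T).map q)
  have h := ((KF.tensorCx (R := A)).map φ).naturality q
  refine ⟨Arrow.isoMk (asIso (DerivedCategory.Q.map (((KF.tensorCx (R := A)).obj P).map q)) ≪≫
      DerivedCategory.Q.mapIso (KF.singleIso P M).symm)
    (asIso (DerivedCategory.Q.map (((KF.tensorCx (R := A)).obj T).map q)) ≪≫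
      DerivedCategory.Q.mapIso (KF.singleIso T M).symm) ?_⟩
  have h' : ((tensorRight M).mapHomologicalComplex (ComplexShape.up ℤ)).map φ =
      (KF.singleIso P M).hom ≫ tensR φ S ≫ (KF.singleIso T M).inv := by
    rw [← Category.assoc, ← hnat, Category.assoc, Iso.hom_inv_id, Category.comp_id]
  simp only [Iso.trans_hom, asIso_hom, Functor.mapIso_hom, Iso.symm_hom, Arrow.mk_hom]
  rw [← Functor.map_comp, ← Functor.map_comp, ← Functor.map_comp, ← Functor.map_comp, h']
  refine congrArg DerivedCategory.Q.map ?_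
  simp only [Category.assoc, Iso.inv_hom_id_assoc]
  rw [reassoc_of% h]

end Values

/-- The derived completion is a reflection. -/
theorem bijective_toDerivedCompletion (I : Ideal A) [DRing.HasDerivedCompletion I] (K : Dual.D A) {E : Dual.D A}
    (hE : DRing.IsDerivedComplete I E) :
    Function.Bijective (fun ψ : ((DRing.derivedCompletion I).obj K).obj ⟶ E => DRing.toDerivedCompletion I K ≫ ψ) := by
  let adj := DRing.derivedCompletionAdj I
  let E' : DRing.DComp I := ⟨E, hE⟩
  have key : ∀ m : (DRing.derivedCompletion I).obj K ⟶ E',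
      adj.homEquiv K E' m = DRing.toDerivedCompletion I K ≫ (ObjectProperty.ι _).map m :=
    fun m => Adjunction.homEquiv_unit adj K E' m
  refine ⟨fun a b hab => ?_, fun c => ?_⟩
  · have := (adj.homEquiv K E').injective (a₁ := ObjectProperty.homMk a) (a₂ := ObjectProperty.homMk b)
      ((key _).trans (hab.trans (key _).symm))
    exact congrArg (ObjectProperty.ι _).map this
  · exact ⟨(ObjectProperty.ι _).map ((adj.homEquiv K E').symm c), (key _).symm.trans
      ((adj.homEquiv K E').apply_symm_apply c)⟩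

/-- Representatives of an object with cohomology bounded above and of its derived completion. -/
theorem exists_completion_rep [IsNoetherianRing A] (I : Ideal A) [DRing.HasDerivedCompletion I]
    (K : Dual.D A) (b : ℤ) (hK : ∀ i : ℤ, b < i → Subsingleton (Dual.HD A K i)) :
    ∃ (P T : DRing.Cx A) (φ : P ⟶ T), KF.IsKFlat P ∧ KF.IsKFlat T ∧ DRing.VanishesAbove T b ∧
      (∀ g ∈ I, DCObj g (DRing.toD T)) ∧
      Nonempty (Arrow.mk (DRing.toDerivedCompletion I K) ≅ Arrow.mk (DerivedCategory.Q.map φ)) ∧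
      ∀ E : Dual.D A, DRing.IsDerivedComplete I E →
        Function.Bijective (fun ψ : DRing.toD T ⟶ E => DerivedCategory.Q.map φ ≫ ψ) := by
  obtain ⟨s, hs⟩ := I.fg_of_isNoetherianRing
  let K' := ((DRing.derivedCompletion I).obj K).obj
  obtain ⟨P, hPv, hPp, ⟨eP⟩⟩ := DR.exists_projective_rep K b hK
  obtain ⟨T, hTv, hTp, ⟨eT⟩⟩ := DR.exists_projective_rep K' b fun i hi =>
    subsingleton_HD_completion I hs K i fun k _ => hK _ (by omega)
  haveI := DR.isKProjective P b hPv hPp
  obtain ⟨φ, hφ⟩ := DR.exists_lift P (eP.hom ≫ DRing.toDerivedCompletion I K ≫ eT.inv)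
  refine ⟨P, T, φ, KF.isKFlat_of_vanishesAbove hPv (DR.termwiseFlat_of_projective hPp),
    KF.isKFlat_of_vanishesAbove hTv (DR.termwiseFlat_of_projective hTp), hTv, fun g hg => ?_,
    ⟨Arrow.isoMk eP.symm eT.symm ?_⟩, fun E hE => ?_⟩
  · exact dcObj_of_iso eT.symm ((isDerivedComplete_iff I K').1 ((DRing.derivedCompletion I).obj K).property g hg)
  · simp only [Arrow.mk_hom]
    rw [hφ]
    simp [K']
  · have h := ((Iso.homFromEquiv eP.symm).bijective.comp (bijective_toDerivedCompletion I K hE)).comp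
      (Iso.homFromEquiv eT).bijective
    convert h using 1
    funext ψ
    rw [hφ]
    simp [K']

/-- Assembling: a functor which on representatives is tensoring with finite free modules. -/
theorem tensor_completion [IsNoetherianRing A] (I : Ideal A) [DRing.HasDerivedCompletion I]
    {F : DRing.Cx A} {c : ℤ} (hc : DRing.VanishesAbove F c) (hF : DRing.TermwiseFiniteFree F)
    (Φ : Dual.D A ⥤ Dual.D A)
    (hΦ : ∀ (P T : DRing.Cx A) (φ : P ⟶ T), KF.IsKFlat P → KF.IsKFlat T →
      Nonempty (Arrow.mk (Φ.map (DerivedCategory.Q.map φ)) ≅ Arrow.mk (DerivedCategory.Q.map (tensR φ F))))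
    (K : Dual.D A) (b : ℤ) (hK : ∀ i : ℤ, b < i → Subsingleton (Dual.HD A K i)) :
    DRing.IsDerivedComplete I (Φ.obj ((DRing.derivedCompletion I).obj K).obj) ∧
      ∀ E : Dual.D A, DRing.IsDerivedComplete I E →
        Function.Bijective (fun ψ : Φ.obj ((DRing.derivedCompletion I).obj K).obj ⟶ E =>
          Φ.map (DRing.toDerivedCompletion I K) ≫ ψ) := by
  obtain ⟨P, T, φ, hP, hT, hTv, hTd, ⟨e₀⟩, href⟩ := exists_completion_rep I K b hK
  obtain ⟨e₁⟩ := hΦ P T φ hP hT
  let e : Arrow.mk (Φ.map (DRing.toDerivedCompletion I K)) ≅ Arrow.mk (DerivedCategory.Q.map (tensR φ F)) :=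
    Φ.mapArrow.mapIso e₀ ≪≫ e₁
  let eR := Arrow.rightFunc.mapIso e
  let eL := Arrow.leftFunc.mapIso e
  have hflat : KF.IsKFlat F := KF.isKFlat_of_vanishesAbove hc
    (DR.termwiseFlat_of_projective fun i => DR.projective_of_finiteFree hF i)
  refine ⟨?_, fun E hE => ?_⟩
  · rw [isDerivedComplete_iff]
    exact fun g hg => dcObj_of_iso eR.symm (dcObj_tens hTv (hTd g hg) hc hF)
  · have h := ((Iso.homFromEquiv eL.symm).bijective.comp (bijective_tensR I φ hflat href hE)).comp
      (Iso.homFromEquiv eR).bijective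
    refine (congrArg Function.Bijective (funext fun ψ => ?_)).mpr h
    change Φ.map (DRing.toDerivedCompletion I K) ≫ ψ =
      e.hom.left ≫ DerivedCategory.Q.map (tensR φ F) ≫ e.inv.right ≫ ψ
    have hw : e.hom.left ≫ DerivedCategory.Q.map (tensR φ F) =
        Φ.map (DRing.toDerivedCompletion I K) ≫ e.hom.right := Arrow.w e.hom
    have hr : e.hom.right ≫ e.inv.right = 𝟙 _ := by
      rw [← Arrow.comp_right, e.hom_inv_id]; rfl
    rw [reassoc_of% hw, reassoc_of% hr]

/-- A finite module over a Noetherian ring is resolved by finite free modules. -/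
theorem exists_finiteFree_resolution [IsNoetherianRing A] (M : Type u) [AddCommGroup M] [Module A M]
    [Module.Finite A M] :
    ∃ (F : DRing.Cx A) (c : ℤ) (q : F ⟶ (HomologicalComplex.single (ModuleCat.{u} A) (ComplexShape.up ℤ) 0).obj
        (ModuleCat.of A M)), DRing.VanishesAbove F c ∧ DRing.TermwiseFiniteFree F ∧ QuasiIso q := by
  have hR : ∀ I : Ideal A, I.FG → Module.FinitePresentation A I := fun I hI => by
    haveI := Module.Finite.of_fg hI
    exact Module.finitePresentation_of_finite A I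
  obtain ⟨F, c, hc, hF, ⟨e⟩⟩ := (DR.isPseudoCoherent'_iff_of_coherent hR (Dual.inD A M)
    ⟨0, fun i hi => DR.subsingleton_HD_inD M i (by omega)⟩).2 fun i => by
      simp only [Module.finitePresentation_iff_finite]
      rcases eq_or_ne i 0 with rfl | hi
      · exact Module.Finite.equiv (DR.inDHomologyIso M).toLinearEquiv.symm
      · haveI := DR.subsingleton_HD_inD (A := A) M i hi
        infer_instance
  haveI := DR.isKProjective F c hc fun i => DR.projective_of_finiteFree hF i
  obtain ⟨q, hq⟩ := exists_quasiIso_of_iso (e ≪≫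
    ((CategoryTheory.SingleFunctors.evaluation _ _ 0).mapIso
      (DerivedCategory.singleFunctorsPostcompQIso (ModuleCat.{u} A))).app (ModuleCat.of A M))
  exact ⟨F, c, q, hc, hF, hq⟩

end GrothLib.DCpl
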