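import Groth.Agent.Lib.DCxRing.DComplete.Ideal
import Mathlib.RingTheory.AdicCompletion.Basic

/-!
# Change of rings and precompleteness for derived complete modules
-/

set_option autoImplicit false
universe u v

namespace GrothLib.DCpl

variable {A : Type u} [CommRing A] {B : Type u} [CommRing B] [Algebra A B]
  {M : Type v} [AddCommGroup M] [Module A M]

lemma dcMod_algebraMap_iff [Module B M] [IsScalarTower A B M] (f : A) :
    DCMod (algebraMap A B f) M ↔ DCMod f M := by
  have : ⇑(telMap (algebraMap A B f) M) = ⇑(telMap f M) := by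
    funext x j
    simp [algebraMap_smul]
  rw [DCMod, DCMod, this]

/-- A quotient ring by a principal ideal stays derived complete. -/
lemma dcMod_quotient_span_singleton {f g : A} (hg : DCMod g A) :
    DCMod (Ideal.Quotient.mk (Ideal.span {f}) g) (A ⧸ Ideal.span {f}) := by
  rw [← Ideal.Quotient.algebraMap_eq, dcMod_algebraMap_iff]
  have h := dcMod_coker (LinearMap.lsmul A A f) hg hg
  refine dcMod_of_equiv ((LinearMap.range (LinearMap.lsmul A A f)).quotEquivOfEq (Ideal.span {f}) ?_) h
  ext x
  simp [Ideal.mem_span_singleton', mul_comm]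

/-- Powers of a finitely generated ideal lie in the ideals generated by powers of the generators. -/
lemma exists_pow_le_span_image_pow (s : Finset A) (n : ℕ) :
    ∃ e : ℕ, Ideal.span (s : Set A) ^ e ≤ ⨆ g ∈ s, Ideal.span {g ^ n} := by
  refine Ideal.exists_pow_le_of_le_radical_of_fg (Ideal.span_le.2 fun g hg => ?_) ⟨s, rfl⟩
  refine ⟨n, ?_⟩
  exact Submodule.mem_iSup_of_mem g (Submodule.mem_iSup_of_mem hg (Ideal.mem_span_singleton_self _))

/-- A module which is derived complete for finitely many elements is precomplete for their ideal. -/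
theorem isPrecomplete_of_dcMod (s : Finset A) (hs : ∀ g ∈ s, DCMod g M) :
    IsPrecomplete (Ideal.span (s : Set A)) M := by
  set I := Ideal.span (s : Set A) with hI
  refine ⟨fun f hf => ?_⟩
  choose e he using exists_pow_le_span_image_pow s
  let E : ℕ → ℕ := fun n => Nat.rec 0 (fun k Ek => max (Ek + 1) (e (k + 1))) n
  have hEs : ∀ n, E n ≤ E (n + 1) := fun n => (Nat.le_succ _).trans (le_max_left _ _)
  have hEn : ∀ n, n ≤ E n := fun n => by
    induction n with
    | zero => exact Nat.zero_le _
    | succ k ih => exact (Nat.succ_le_succ ih).trans (le_max_left _ _)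
  have hEle : ∀ n, (I ^ E n : Ideal A) ≤ ⨆ g ∈ s, Ideal.span {g ^ n} ∨ n = 0 := fun n => by
    cases n with
    | zero => exact Or.inr rfl
    | succ k => exact Or.inl ((Ideal.pow_le_pow_right (le_max_right _ _)).trans (he (k + 1)))
  have hstep : ∀ n, ∃ w : A → M, (s = ∅ ∧ n = 0) ∨ f (E (n + 1)) - f (E n) = ∑ g ∈ s, g ^ n • w g := by
    intro n
    rcases s.eq_empty_or_nonempty with h | ⟨g₀, hg₀⟩
    · refine ⟨0, ?_⟩
      rcases Nat.eq_zero_or_pos n with hn | hn
      · exact Or.inl ⟨h, hn⟩
      · right
        have hI0 : I = ⊥ := by rw [hI, h, Finset.coe_empty, Ideal.span_empty]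
        have := SModEq.sub_mem.1 (hf (hEs n)).symm
        rw [hI0, Ideal.bot_pow (by have := hEn n; omega), Submodule.bot_smul] at this
        simpa [h] using this
    · rcases hEle n with h | rfl
      · have hmem := SModEq.sub_mem.1 (hf (hEs n)).symm
        have hle : (I ^ E n • ⊤ : Submodule A M) ≤ ⨆ g ∈ s, (Ideal.span {g ^ n} • ⊤ : Submodule A M) := by
          refine (Submodule.smul_mono_left h).trans ?_
          simp only [Submodule.iSup_smul]
          exact le_rfl
        obtain ⟨μ, hμ⟩ := (Submodule.mem_iSup_finset_iff_exists_sum _ _).1 (hle hmem)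
        have : ∀ g, ∃ x : M, g ^ n • x = (μ g : M) := fun g => by
          have := (μ g).2
          obtain ⟨x, -, hx⟩ := (Submodule.mem_smul_pointwise_iff_exists _ _ _).1
            ((Submodule.ideal_span_singleton_smul (g ^ n) (⊤ : Submodule A M)).le this)
          exact ⟨x, hx⟩
        choose w hw using this
        exact ⟨w, Or.inr (by simp only [hw, hμ])⟩
      · classical
        refine ⟨Function.update 0 g₀ (f (E 1) - f (E 0)), Or.inr ?_⟩
        rw [Finset.sum_eq_single g₀ (fun g _ hg => by simp [Function.update_of_ne hg])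
          (fun h => absurd hg₀ h)]
        simp
  choose w hw using hstep
  rcases s.eq_empty_or_nonempty with h | hne
  · have hI0 : I = ⊥ := by rw [hI, h, Finset.coe_empty, Ideal.span_empty]
    refine ⟨f 1, fun n => ?_⟩
    rcases Nat.eq_zero_or_pos n with rfl | hn
    · simp [SModEq.top]
    · have := (hf hn).symm
      rw [hI0, Nat.succ_eq_add_one, zero_add, Ideal.bot_pow one_ne_zero, Submodule.bot_smul, SModEq.bot] at this
      rw [this]
  · have hw' : ∀ n, f (E (n + 1)) - f (E n) = ∑ g ∈ s, g ^ n • w n g := fun n =>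
      (hw n).resolve_left fun h => hne.ne_empty h.1
    have : ∀ g : A, ∃ z : ℕ → M, g ∈ s → telMap g M z = fun n => w n g := fun g => by
      by_cases hg : g ∈ s
      · obtain ⟨z, hz⟩ := (hs g hg).2 fun n => w n g
        exact ⟨z, fun _ => hz⟩
      · exact ⟨0, fun h => absurd h hg⟩
    choose z hz using this
    have hsum : ∀ n, f (E 0) + ∑ g ∈ s, z g 0 = f (E n) + ∑ g ∈ s, g ^ n • z g n := by
      intro n
      induction n with
      | zero => simp
      | succ n ih =>
        have h1 : ∀ g ∈ s, g ^ n • z g n = g ^ n • w n g + g ^ (n + 1) • z g (n + 1) := fun g hg => by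
          rw [pow_succ, mul_smul, ← smul_add]
          congr 1
          exact eq_add_of_sub_eq (congrFun (hz g hg) n)
        rw [ih, Finset.sum_congr rfl h1, Finset.sum_add_distrib, ← hw', ← add_assoc, add_sub_cancel]
    refine ⟨f (E 0) + ∑ g ∈ s, z g 0, fun n => ?_⟩
    refine (hf (hEn n)).trans (SModEq.symm (SModEq.sub_mem.2 ?_))
    rw [hsum n, add_sub_cancel_left]
    exact sum_mem fun g hg =>
      Submodule.smul_mem_smul (Ideal.pow_mem_pow (Ideal.subset_span hg) n) trivial

end GrothLib.DCpl
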