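import Groth.Agent.Lib.DCxRing.DComplete.Completion
import Mathlib.Algebra.Homology.DerivedCategory.HomologySequence

/-!
# Derived completion and triangles
-/

set_option autoImplicit false
set_option maxHeartbeats 800000
universe u

open CategoryTheory CategoryTheory.Limits Pretriangulated

attribute [local instance] HasDerivedCategory.standard

namespace GrothLib.DCpl

variable {A : Type u} [CommRing A] (s : Finset A)

/-- `η` is a derived completion with respect to the elements of `s`, tested on maps. -/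
def IsReflection {K L : Dual.D A} (η : K ⟶ L) : Prop :=
  ∀ E : Dual.D A, (∀ g ∈ s, DCObj g E) → Function.Bijective (fun ψ : L ⟶ E => η ≫ ψ)

variable {s}

lemma isReflection_shift {K L : Dual.D A} {η : K ⟶ L} (h : IsReflection s η) (k : ℤ) :
    IsReflection s (η⟦k⟧') := by
  intro E hE
  let adj := (shiftEquiv (Dual.D A) k).toAdjunction
  have h1 := h ((CategoryTheory.shiftFunctor (Dual.D A) (-k)).obj E) fun g hg => dcObj_shift (hE g hg) _
  have := ((adj.homEquiv K E).symm.bijective.comp h1).comp (adj.homEquiv L E).bijective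
  refine (congrArg Function.Bijective (funext fun ψ => ?_)).mpr this
  change η⟦k⟧' ≫ ψ = (adj.homEquiv K E).symm (η ≫ (adj.homEquiv L E) ψ)
  rw [Adjunction.homEquiv_naturality_left_symm, Equiv.symm_apply_apply]
  rfl

/-- The third map of a morphism of triangles whose first two maps are completions is a completion. -/
theorem isReflection_third {T T' : Triangle (Dual.D A)} (hT : T ∈ distTriang _) (hT' : T' ∈ distTriang _)
    (a : T.obj₁ ⟶ T'.obj₁) (b : T.obj₂ ⟶ T'.obj₂) (c : T.obj₃ ⟶ T'.obj₃)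
    (h₁ : T.mor₁ ≫ b = a ≫ T'.mor₁) (h₂ : T.mor₂ ≫ c = b ≫ T'.mor₂)
    (h₃ : T.mor₃ ≫ a⟦(1 : ℤ)⟧' = c ≫ T'.mor₃) (ha : IsReflection s a) (hb : IsReflection s b) :
    IsReflection s c := by
  intro E hE
  have ha0 := ha E hE
  have hb0 := hb E hE
  have ha1 := isReflection_shift ha (1 : ℤ) E hE
  have hb1 := isReflection_shift hb (1 : ℤ) E hE
  have h₁' : T.mor₁⟦(1 : ℤ)⟧' ≫ b⟦(1 : ℤ)⟧' = a⟦(1 : ℤ)⟧' ≫ T'.mor₁⟦(1 : ℤ)⟧' := by
    rw [← Functor.map_comp, ← Functor.map_comp, h₁]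
  refine ⟨fun x y hxy => ?_, fun z => ?_⟩
  · rw [← sub_eq_zero]
    have hc : c ≫ (x - y) = 0 := by
      rw [Preadditive.comp_sub, sub_eq_zero]
      exact hxy
    have h4 : T'.mor₂ ≫ (x - y) = 0 := by
      apply hb0.1
      change b ≫ T'.mor₂ ≫ (x - y) = b ≫ 0
      rw [← Category.assoc, ← h₂, Category.assoc, hc, comp_zero, comp_zero]
    obtain ⟨u, hu⟩ := T'.yoneda_exact₃ hT' _ h4
    have h5 : T.mor₃ ≫ a⟦(1 : ℤ)⟧' ≫ u = 0 := by
      rw [← Category.assoc, h₃, Category.assoc, ← hu, hc]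
    obtain ⟨v, hv⟩ : ∃ v : T.obj₂⟦(1 : ℤ)⟧ ⟶ E, a⟦(1 : ℤ)⟧' ≫ u = (-T.mor₁⟦(1 : ℤ)⟧') ≫ v :=
      T.rotate.yoneda_exact₃ (rot_of_distTriang _ hT) (a⟦(1 : ℤ)⟧' ≫ u) h5
    obtain ⟨v', hv'⟩ := hb1.2 v
    have h6 : u = (-T'.mor₁⟦(1 : ℤ)⟧') ≫ v' := by
      apply ha1.1
      change a⟦(1 : ℤ)⟧' ≫ u = a⟦(1 : ℤ)⟧' ≫ (-T'.mor₁⟦(1 : ℤ)⟧') ≫ v'
      rw [hv, ← hv', Preadditive.neg_comp, Preadditive.neg_comp, Preadditive.comp_neg, reassoc_of% h₁']
    rw [hu, h6, Preadditive.neg_comp, Preadditive.comp_neg, ← Category.assoc,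
      comp_distTriang_mor_zero₃₁ _ hT', zero_comp, neg_zero]
  · obtain ⟨z₁, hz₁⟩ := hb0.2 (T.mor₂ ≫ z)
    have hz₁' : b ≫ z₁ = T.mor₂ ≫ z := hz₁
    have h4 : T'.mor₁ ≫ z₁ = 0 := by
      apply ha0.1
      change a ≫ T'.mor₁ ≫ z₁ = a ≫ 0
      rw [← Category.assoc, ← h₁, Category.assoc, hz₁', ← Category.assoc, comp_distTriang_mor_zero₁₂ _ hT,
        zero_comp, comp_zero]
    obtain ⟨z₂, hz₂⟩ := T'.yoneda_exact₂ hT' _ h4
    have h5 : T.mor₂ ≫ (z - c ≫ z₂) = 0 := by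
      rw [Preadditive.comp_sub, ← Category.assoc, h₂, Category.assoc, ← hz₂, hz₁', sub_self]
    obtain ⟨w, hw⟩ := T.yoneda_exact₃ hT _ h5
    obtain ⟨w', hw'⟩ := ha1.2 w
    have hw'' : a⟦(1 : ℤ)⟧' ≫ w' = w := hw'
    refine ⟨z₂ + T'.mor₃ ≫ w', ?_⟩
    change c ≫ (z₂ + T'.mor₃ ≫ w') = z
    rw [Preadditive.comp_add, ← Category.assoc c T'.mor₃, ← h₃, Category.assoc, hw'', ← hw, add_sub_cancel]

/-- The cofibre of the completed morphism is the completion of the cofibre. -/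
theorem exists_completed_cofibre (I : Ideal A) [DRing.HasDerivedCompletion I] (hs : Ideal.span (s : Set A) = I)
    {K L : Dual.D A} (φ : K ⟶ L) :
    ∃ (M M' : Dual.D A) (g : L ⟶ M) (h : M ⟶ K⟦(1 : ℤ)⟧) (g' : ((DRing.derivedCompletion I).obj L).obj ⟶ M')
      (h' : M' ⟶ (((DRing.derivedCompletion I).obj K).obj)⟦(1 : ℤ)⟧),
      Triangle.mk φ g h ∈ distTriang _ ∧ Triangle.mk ((DRing.derivedCompletion I).map φ).hom g' h' ∈ distTriang _ ∧
      ∀ i : ℤ, (∀ k : ℕ, k ≤ s.card → Subsingleton (Dual.HD A M (i + k))) → Subsingleton (Dual.HD A M' i) := by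
  obtain ⟨M, g, h, hT⟩ := distinguished_cocone_triangle φ
  obtain ⟨M', g', h', hT'⟩ := distinguished_cocone_triangle ((DRing.derivedCompletion I).map φ).hom
  refine ⟨M, M', g, h, g', h', hT, hT', fun i hi => ?_⟩
  have hcomm : φ ≫ DRing.toDerivedCompletion I L =
      DRing.toDerivedCompletion I K ≫ ((DRing.derivedCompletion I).map φ).hom :=
    (DRing.derivedCompletionAdj I).unit.naturality φ
  obtain ⟨c, hc₂, hc₃⟩ := complete_distinguished_triangle_morphism (Triangle.mk φ g h)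
    (Triangle.mk ((DRing.derivedCompletion I).map φ).hom g' h') hT hT' (DRing.toDerivedCompletion I K)
    (DRing.toDerivedCompletion I L) hcomm
  have hX : ∀ (N : Dual.D A), ∀ x ∈ s, DCObj x ((DRing.derivedCompletion I).obj N).obj := fun N x hx n =>
    (isDerivedComplete_iff I _).1 ((DRing.derivedCompletion I).obj N).property x (hs ▸ Ideal.subset_span hx) n
  have href : ∀ N : Dual.D A, IsReflection s (DRing.toDerivedCompletion I N) := fun N E hE => by
    obtain ⟨L', η, hL, hU, -⟩ := exists_completion s N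
    obtain ⟨e, he⟩ := exists_iso_completion I hs η hL hU
    have h1 := hU E hE
    have := h1.comp (e.homCongr (Iso.refl E)).bijective
    convert this using 1
    funext ψ
    change _ = η ≫ (e.inv ≫ ψ ≫ 𝟙 E)
    rw [Category.comp_id, ← he, Category.assoc, e.hom_inv_id_assoc]
  have hrc : IsReflection s c := isReflection_third hT hT' _ _ _ hcomm hc₂ hc₃ (href K) (href L)
  have hM' : ∀ x ∈ s, DCObj x M' := fun x hx => by
    rw [dcObj_iff_orth]
    intro X _ ξ
    have h0 : ξ ≫ (Triangle.mk ((DRing.derivedCompletion I).map φ).hom g' h').mor₃ = 0 :=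
      (dcObj_iff_orth x _).1 (dcObj_shift (hX K x hx) 1) X _
    obtain ⟨y, hy⟩ := Triangle.coyoneda_exact₃ _ hT' ξ h0
    rw [hy, (dcObj_iff_orth x _).1 (hX L x hx) X y]
    exact zero_comp
  obtain ⟨e, -⟩ := exists_iso_completion I hs c hM' hrc
  haveI : Subsingleton (Dual.HD A ((DRing.derivedCompletion I).obj (Triangle.mk φ g h).obj₃).obj i) :=
    subsingleton_HD_completion I hs M i hi
  exact ((DerivedCategory.homologyFunctor (ModuleCat.{u} A) i).mapIso e).toLinearEquiv.symm.subsingleton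

end GrothLib.DCpl
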